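import Groth.Prelude.Def_RelSpec

/-!
# Charts of a relative spectrum
-/

set_option autoImplicit false
universe u

open CategoryTheory CategoryTheory.Limits AlgebraicGeometry TopologicalSpace Opposite

noncomputable section

namespace RelConeLib

/-- Morphisms agreeing on open immersions around every point are equal. -/
theorem ext_of_charts {X Y : Scheme.{u}} (f g : X ⟶ Y)
    (H : ∀ x : X, ∃ (W : Scheme.{u}) (j : W ⟶ X), IsOpenImmersion j ∧ x ∈ Set.range j ∧ j ≫ f = j ≫ g) :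
    f = g := by
  refine Scheme.hom_ext_of_forall f g fun x => ?_
  obtain ⟨W, j, hj, hx, h⟩ := H x
  refine ⟨j.opensRange, hx, ?_⟩
  rw [← cancel_epi j.isoOpensRange.hom, Scheme.Hom.isoOpensRange_hom_ι_assoc,
    Scheme.Hom.isoOpensRange_hom_ι_assoc]
  exact h

variable {S : Scheme.{u}} (A : RelSpec.QCAlg S)

theorem ι_res_basicOpen {U : S.Opens} (hU : IsAffineOpen U) (r : Γ(S, U)) {W : S.Opens} (hW : IsAffineOpen W)
    (e : S.basicOpen r = W) (hWU : W ≤ U) :
    Spec.map (A.presheaf.map (homOfLE hWU).op) ≫ A.ι U hU = A.ι W hW := by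
  subst e
  exact A.ι_res (U := ⟨U, hU⟩) (V := ⟨S.basicOpen r, hW⟩) (homOfLE ⟨r, rfl⟩)

theorem preimage_π_ι {U : S.Opens} (hU : IsAffineOpen U) (x : Spec (A.presheaf.obj (op U))) :
    A.π (A.ι U hU x) ∈ U := by
  have : A.ι U hU x ∈ A.π ⁻¹ᵁ U := by rw [A.π_preimage U hU]; exact ⟨x, rfl⟩
  exact this

theorem exists_ι_eq {U : S.Opens} (hU : IsAffineOpen U) (x : A.spec) (hx : A.π x ∈ U) :
    ∃ z, A.ι U hU z = x := by
  have : x ∈ (A.ι U hU).opensRange := by rw [← A.π_preimage U hU]; exact hx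
  exact this

theorem exists_res_eq {U : S.Opens} (hU : IsAffineOpen U) (r : Γ(S, U)) (z : Spec (A.presheaf.obj (op U)))
    (hz : A.π (A.ι U hU z) ∈ S.basicOpen r) :
    ∃ t, Spec.map (A.presheaf.map (homOfLE (S.basicOpen_le r)).op) t = z := by
  obtain ⟨t, ht⟩ := exists_ι_eq A (hU.basicOpen r) _ hz
  refine ⟨t, (A.ι U hU).isOpenEmbedding.injective ?_⟩
  rw [← Scheme.Hom.comp_apply, ι_res_basicOpen A hU r (hU.basicOpen r) rfl]
  exact ht

theorem ι_res_le {U V : S.Opens} (hU : IsAffineOpen U) (hV : IsAffineOpen V) (h : V ≤ U) :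
    Spec.map (A.presheaf.map (homOfLE h).op) ≫ A.ι U hU = A.ι V hV := by
  refine ext_of_charts _ _ fun b => ?_
  have hb := preimage_π_ι A hV b
  obtain ⟨r, r', e, hr⟩ := exists_basicOpen_le_affine_inter hU hV _ ⟨h hb, hb⟩
  haveI : IsOpenImmersion (Spec.map (A.presheaf.map (homOfLE (S.basicOpen_le r')).op)) := by
    haveI : IsOpenImmersion (Spec.map (A.presheaf.map (homOfLE (S.basicOpen_le r')).op) ≫ A.ι V hV) := by
      rw [ι_res_basicOpen A hV r' (hV.basicOpen r') rfl]; infer_instance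
    exact IsOpenImmersion.of_comp _ (A.ι V hV)
  refine ⟨_, Spec.map (A.presheaf.map (homOfLE (S.basicOpen_le r')).op), inferInstance,
    exists_res_eq A hV r' b (e ▸ hr), ?_⟩
  rw [← Category.assoc, ← Spec.map_comp, ← Functor.map_comp, ← op_comp, homOfLE_comp,
    ι_res_basicOpen A hU r (hV.basicOpen r') e, ι_res_basicOpen A hV r' (hV.basicOpen r') rfl]

/-- A point over an affine open `U` of the base lies in a chart. -/
theorem exists_chart (x : A.spec) : ∃ (U : S.Opens) (hU : IsAffineOpen U) (z : Spec (A.presheaf.obj (op U))),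
    A.ι U hU z = x := by
  obtain ⟨U, hU, hxU, -⟩ := exists_isAffineOpen_mem_and_subset (x := A.π x) (U := ⊤) trivial
  obtain ⟨z, hz⟩ := exists_ι_eq A hU x hxU
  exact ⟨U, hU, z, hz⟩

/-- A point of the source of a morphism of bases lies in a pair of charts. -/
theorem exists_chart_pair {S' : Scheme.{u}} (q : S' ⟶ S) (B : RelSpec.QCAlg S') (x : B.spec) :
    ∃ (U : S.Opens) (_ : IsAffineOpen U) (U' : S'.Opens) (hU' : IsAffineOpen U') (_ : U' ≤ q ⁻¹ᵁ U)
      (z : Spec (B.presheaf.obj (op U'))), B.ι U' hU' z = x := by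
  obtain ⟨U, hU, hxU, -⟩ := exists_isAffineOpen_mem_and_subset (x := q (B.π x)) (U := ⊤) trivial
  obtain ⟨U', hU', hxU', hle'⟩ := exists_isAffineOpen_mem_and_subset (x := B.π x) (U := q ⁻¹ᵁ U) hxU
  obtain ⟨z, hz⟩ := exists_ι_eq B hU' x hxU'
  exact ⟨U, hU, U', hU', fun a ha => hle' ha, z, hz⟩

end RelConeLib

end
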