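import Mathlib.AlgebraicGeometry.Morphisms.Affine
import Groth.Agent.RelConeLib.Spec

/-!
# Gluing morphisms given on charts which locally refine one another
-/

set_option autoImplicit false
universe u v

open CategoryTheory CategoryTheory.Limits AlgebraicGeometry

namespace RelConeLib

variable {X Y : Scheme.{u}} {κ : Type v} {Z : κ → Scheme.{u}}

theorem existsUnique_glue_local (c : ∀ i, Z i ⟶ X) [∀ i, IsOpenImmersion (c i)]
    (t : ∀ i, Z i ⟶ Y) (hcov : ∀ x : X, ∃ i, x ∈ (c i).opensRange)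
    (hloc : ∀ i j (x : X), x ∈ (c i).opensRange → x ∈ (c j).opensRange →
      ∃ (k : κ) (l : Z k ⟶ Z i) (r : Z k ⟶ Z j), x ∈ (c k).opensRange ∧ l ≫ c i = c k ∧ r ≫ c j = c k ∧
        l ≫ t i = t k ∧ r ≫ t j = t k) :
    ∃! p : X ⟶ Y, ∀ i, c i ≫ p = t i := by
  have hcompat : ∀ i j, pullback.fst (c i) (c j) ≫ t i = pullback.snd (c i) (c j) ≫ t j := by
    intro i j
    refine ext_of_charts _ _ fun w => ?_
    let q := pullback.fst (c i) (c j) ≫ c i
    have hq : q = pullback.snd (c i) (c j) ≫ c j := pullback.condition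
    obtain ⟨k, l, r, hx, hl, hr, hlt, hrt⟩ := hloc i j (q w) ⟨_, rfl⟩ (by rw [hq]; exact ⟨_, rfl⟩)
    refine ⟨_, pullback.fst q (c k), inferInstance, ?_, ?_⟩
    · rw [Scheme.Pullback.range_fst]
      exact hx
    · have e1 : pullback.fst q (c k) ≫ pullback.fst (c i) (c j) = pullback.snd q (c k) ≫ l := by
        rw [← cancel_mono (c i), Category.assoc, Category.assoc, hl]
        exact pullback.condition
      have e2 : pullback.fst q (c k) ≫ pullback.snd (c i) (c j) = pullback.snd q (c k) ≫ r := by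
        rw [← cancel_mono (c j), Category.assoc, Category.assoc, hr]
        exact (congrArg (pullback.fst q (c k) ≫ ·) hq.symm).trans pullback.condition
      rw [reassoc_of% e1, reassoc_of% e2, hlt, hrt]
  choose idx hidx using hcov
  let 𝒰 : X.OpenCover :=
    { I₀ := X
      X := fun x => Z (idx x)
      f := fun x => c (idx x)
      mem₀ := by
        rw [Scheme.presieve₀_mem_precoverage_iff]
        exact ⟨fun x => ⟨x, hidx x⟩, fun x => inferInstanceAs (IsOpenImmersion (c (idx x)))⟩ }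
  let p : X ⟶ Y := 𝒰.glueMorphisms (fun x => t (idx x)) fun x y => hcompat (idx x) (idx y)
  have hp : ∀ x, c (idx x) ≫ p = t (idx x) := fun x =>
    𝒰.ι_glueMorphisms (fun x => t (idx x)) (fun x y => hcompat (idx x) (idx y)) x
  refine ⟨p, fun i => ?_, fun q hq => ?_⟩
  · refine Scheme.Cover.hom_ext (𝒰.pullback₁ (c i)) _ _ fun x => ?_
    show pullback.fst (c i) (c (idx x)) ≫ c i ≫ p = pullback.fst (c i) (c (idx x)) ≫ t i
    rw [pullback.condition_assoc, hp, hcompat]
  · refine Scheme.Cover.hom_ext 𝒰 _ _ fun x => ?_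
    exact (hq (idx x)).trans (hp x).symm

/-- A property local on the target, read on squares over an open cover of the target. -/
theorem of_squares (Q : MorphismProperty Scheme.{u}) [IsZariskiLocalAtTarget Q] (f : X ⟶ Y)
    {W V : κ → Scheme.{u}} (jX : ∀ i, W i ⟶ X) (jY : ∀ i, V i ⟶ Y) [∀ i, IsOpenImmersion (jX i)]
    [∀ i, IsOpenImmersion (jY i)] (g : ∀ i, W i ⟶ V i) (w : ∀ i, jX i ≫ f = g i ≫ jY i)
    (hpre : ∀ i, f ⁻¹ᵁ (jY i).opensRange = (jX i).opensRange) (hcov : ∀ y : Y, ∃ i, y ∈ (jY i).opensRange)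
    (hg : ∀ i, Q (g i)) : Q f := by
  choose idx hidx using hcov
  let 𝒰 : Y.OpenCover :=
    { I₀ := Y
      X := fun y => V (idx y)
      f := fun y => jY (idx y)
      mem₀ := by
        rw [Scheme.presieve₀_mem_precoverage_iff]
        exact ⟨fun y => ⟨y, hidx y⟩, fun y => inferInstanceAs (IsOpenImmersion (jY (idx y)))⟩ }
  refine IsZariskiLocalAtTarget.of_openCover (P := Q) 𝒰 fun y => ?_
  have sq : IsPullback (jX (idx y)) (g (idx y)) f (jY (idx y)) :=
    (IsOpenImmersion.isPullback (g (idx y)) (jX (idx y)) (jY (idx y)) f (w _) (hpre _)).flip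
  show Q (pullback.snd f (jY (idx y)))
  rw [← MorphismProperty.cancel_left_of_respectsIso Q sq.isoPullback.hom, sq.isoPullback_hom_snd]
  exact hg _

end RelConeLib
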