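import Groth.Prelude.Def_RelSpec2
import Groth.Agent.RelConeLib.Glue

/-!
# Charts of a relative homogeneous spectrum and of the pointed projective cone
-/

set_option autoImplicit false
universe u

open CategoryTheory CategoryTheory.Limits AlgebraicGeometry TopologicalSpace Opposite HomogeneousLocalization
open scoped HomogeneousIdeal

noncomputable section

namespace RelConeLib

variable {Y P : Scheme.{u}} {𝒮 : RelProj.QCGrAlg Y} {p : P ⟶ Y}
  {chart : ∀ (U : Y.Opens) (hU : IsAffineOpen U), (((p ⁻¹ᵁ U : P.Opens) : Scheme.{u}) ≅ Proj (𝒮.deg U hU))}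

theorem emb_opensRange (U : Y.Opens) (hU : IsAffineOpen U) :
    (RelProj.emb p chart U hU).opensRange = p ⁻¹ᵁ U := by
  simp only [RelProj.emb, Scheme.Hom.opensRange_comp_of_isIso, Scheme.Opens.opensRange_ι]

theorem emb_over (hP : RelProj.IsRelProj 𝒮 p chart) (U : Y.Opens) (hU : IsAffineOpen U) :
    RelProj.emb p chart U hU ≫ p = Proj.toSpecZero (𝒮.deg U hU) ≫ Spec.map (𝒮.strZero U hU) ≫ hU.fromSpec := by
  rw [RelProj.emb, Category.assoc, ← hP.chart_over U hU, Iso.inv_hom_id_assoc]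

theorem mem_of_emb {U : Y.Opens} {hU : IsAffineOpen U} (v : Proj (𝒮.deg U hU)) :
    p (RelProj.emb p chart U hU v) ∈ U :=
  (emb_opensRange (chart := chart) U hU).le ⟨v, rfl⟩

theorem exists_emb_eq {U : Y.Opens} (hU : IsAffineOpen U) (x : P) (hx : p x ∈ U) :
    ∃ v, RelProj.emb p chart U hU v = x :=
  (emb_opensRange (chart := chart) U hU).ge hx

theorem exists_emb (x : P) : ∃ (U : Y.Opens) (hU : IsAffineOpen U) (v : Proj (𝒮.deg U hU)),
    RelProj.emb p chart U hU v = x := by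
  obtain ⟨U, hU, hxU, -⟩ := exists_isAffineOpen_mem_and_subset (x := p x) (U := ⊤) trivial
  obtain ⟨v, hv⟩ := exists_emb_eq (chart := chart) hU x hxU
  exact ⟨U, hU, v, hv⟩

theorem exists_map_res_eq (hP : RelProj.IsRelProj 𝒮 p chart) {U : Y.Opens} (hU : IsAffineOpen U) (r : Γ(Y, U))
    (v : Proj (𝒮.deg U hU)) (hv : p (RelProj.emb p chart U hU v) ∈ Y.basicOpen r) :
    ∃ t, Proj.map (𝒮.res hU (hU.basicOpen r) (Y.basicOpen_le r)) (𝒮.irrelevant_le_map U hU r) t = v := by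
  obtain ⟨t, ht⟩ := exists_emb_eq (chart := chart) (hU.basicOpen r) _ hv
  refine ⟨t, (RelProj.emb p chart U hU).isOpenEmbedding.injective ?_⟩
  rw [← Scheme.Hom.comp_apply, RelProj.map_res_emb hP U hU r]
  exact ht

section ι

variable {𝒯 : RelProj.QCGrAlg Y} {φ : 𝒮.toQCAlg ⟶ 𝒯.toQCAlg} (hφ : RelProj.IsGradedHom φ)

theorem res_gradedHomAt {U V : Y.Opens} (hU : IsAffineOpen U) (hV : IsAffineOpen V) (h : V ≤ U)
    (a : 𝒮.presheaf.obj (op U)) :
    𝒯.res hU hV h (RelProj.gradedHomAt φ hφ U hU a) = RelProj.gradedHomAt φ hφ V hV (𝒮.res hU hV h a) :=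
  (NatTrans.naturality_apply φ.hom (homOfLE h).op a).symm

theorem mem_domOpen_res {U : Y.Opens} (hU : IsAffineOpen U) (r : Γ(Y, U))
    (t : Proj (𝒯.deg (Y.basicOpen r) (hU.basicOpen r))) :
    Proj.map (𝒯.res hU (hU.basicOpen r) (Y.basicOpen_le r)) (𝒯.irrelevant_le_map U hU r) t ∈
        RelCone.domOpen (RelProj.gradedHomAt φ hφ U hU) ↔
      t ∈ RelCone.domOpen (RelProj.gradedHomAt φ hφ _ (hU.basicOpen r)) := by
  rw [RelCone.mem_domOpen, RelCone.mem_domOpen]
  constructor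
  · rintro ⟨f, hf, hft⟩
    refine ⟨𝒮.res hU (hU.basicOpen r) (Y.basicOpen_le r) f, ?_, fun h => hft ?_⟩
    · classical
      rw [← DirectSum.sum_support_decompose (𝒮.deg U hU) f, map_sum]
      refine Ideal.sum_mem _ fun n _ => ?_
      rcases Nat.eq_zero_or_pos n with rfl | hn
      · have h0 : (DirectSum.decompose (𝒮.deg U hU) f 0 : 𝒮.presheaf.obj (op U)) = 0 := hf
        rw [h0, map_zero]
        exact zero_mem _
      · exact HomogeneousIdeal.mem_irrelevant_of_mem _ hn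
          ((𝒮.res hU (hU.basicOpen r) (Y.basicOpen_le r)).map_mem (SetLike.coe_mem _))
    · rw [← res_gradedHomAt hφ hU (hU.basicOpen r) (Y.basicOpen_le r) f] at h
      exact h
  · rintro ⟨f, hf, hft⟩
    by_contra hc
    push Not at hc
    refine hft ?_
    have h1 : (HomogeneousIdeal.irrelevant (𝒮.deg (Y.basicOpen r) (hU.basicOpen r))).toIdeal ≤
        Ideal.comap (RelProj.gradedHomAt φ hφ _ (hU.basicOpen r)) t.asHomogeneousIdeal.toIdeal := by
      refine le_trans (𝒮.irrelevant_le_map U hU r) ?_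
      show Ideal.map (𝒮.res hU (hU.basicOpen r) (Y.basicOpen_le r)) _ ≤ _
      rw [Ideal.map_le_iff_le_comap]
      intro g hg
      show RelProj.gradedHomAt φ hφ _ (hU.basicOpen r) (𝒮.res hU (hU.basicOpen r) (Y.basicOpen_le r) g) ∈ t.asHomogeneousIdeal.toIdeal
      rw [← res_gradedHomAt hφ hU (hU.basicOpen r) (Y.basicOpen_le r) g]
      exact hc g hg
    exact h1 hf

end ι

section Cone

variable {PC : Scheme.{u}} {𝒮h : RelProj.QCGrAlg Y} {ι : 𝒮.toQCAlg ⟶ 𝒮h.toQCAlg}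
  {z : 𝒮h.presheaf.obj (op ⊤)} (hz : RelCone.IsPolyOver 𝒮 𝒮h ι z) {pC : PC ⟶ Y}
  {chartC : ∀ (U : Y.Opens) (hU : IsAffineOpen U), (((pC ⁻¹ᵁ U : PC.Opens) : Scheme.{u}) ≅ Proj (𝒮h.deg U hU))}

theorem emb_preimage_pointedProjCone (hPC : RelProj.IsRelProj 𝒮h pC chartC) (U : Y.Opens) (hU : IsAffineOpen U) :
    RelProj.emb pC chartC U hU ⁻¹ᵁ RelCone.pointedProjCone 𝒮 hz pC chartC =
      RelCone.domOpen (RelProj.gradedHomAt ι hz.graded U hU) := by
  ext v
  constructor
  · intro hv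
    obtain ⟨⟨V, hV⟩, w, hw, hwv⟩ := Opens.mem_iSup.mp hv
    have h1 : pC (RelProj.emb pC chartC U hU v) ∈ V := by rw [← hwv]; exact mem_of_emb w
    obtain ⟨r, r', e, hr⟩ := exists_basicOpen_le_affine_inter hU hV _ ⟨mem_of_emb v, h1⟩
    obtain ⟨t, rfl⟩ := exists_map_res_eq hPC hU r v hr
    refine (mem_domOpen_res hz.graded hU r t).mpr ?_
    have key : ∀ (W : Y.Opens) (hW : IsAffineOpen W) (_ : Y.basicOpen r' = W) (t : Proj (𝒮h.deg W hW)),
        RelProj.emb pC chartC W hW t = RelProj.emb pC chartC V hV w →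
          t ∈ RelCone.domOpen (RelProj.gradedHomAt ι hz.graded W hW) := by
      rintro W hW rfl t ht
      refine (mem_domOpen_res hz.graded hV r' t).mp ?_
      have : Proj.map (𝒮h.res hV hW (Y.basicOpen_le r')) (𝒮h.irrelevant_le_map V hV r') t = w := by
        refine (RelProj.emb pC chartC V hV).isOpenEmbedding.injective ?_
        rw [← Scheme.Hom.comp_apply, RelProj.map_res_emb hPC V hV r']
        exact ht
      rw [this]
      exact hw
    refine key _ (hU.basicOpen r) e.symm t (Eq.trans ?_ hwv.symm)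
    rw [← RelProj.map_res_emb hPC U hU r]
    rfl
  · intro hv
    exact Opens.mem_iSup.mpr ⟨⟨U, hU⟩, v, hv, rfl⟩

end Cone

end RelConeLib

end
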