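import Groth.Agent.RelConeLib.Dom

/-!
# Naturality of the morphism defined by a graded homomorphism
-/

set_option autoImplicit false
universe u

open CategoryTheory AlgebraicGeometry HomogeneousLocalization TopologicalSpace
open ConeRetrLib (Idx)
open scoped HomogeneousIdeal

noncomputable section

namespace RelConeLib

variable {A σ : Type u} [CommRing A] [SetLike σ A] [AddSubgroupClass σ A] {𝒜 : ℕ → σ} [GradedRing 𝒜]
  {B τ : Type u} [CommRing B] [SetLike τ B] [AddSubgroupClass τ B] {ℬ : ℕ → τ} [GradedRing ℬ]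
  {A' σ' : Type u} [CommRing A'] [SetLike σ' A'] [AddSubgroupClass σ' A'] {𝒜' : ℕ → σ'} [GradedRing 𝒜']
  {B' τ' : Type u} [CommRing B'] [SetLike τ' B'] [AddSubgroupClass τ' B'] {ℬ' : ℕ → τ'} [GradedRing ℬ']
  {ψ : 𝒜 →+*ᵍ ℬ} {ψ' : 𝒜' →+*ᵍ ℬ'} {ρ : 𝒜 →+*ᵍ 𝒜'} {ρh : ℬ →+*ᵍ ℬ'}
  (hρ : HomogeneousIdeal.irrelevant 𝒜' ≤ (HomogeneousIdeal.irrelevant 𝒜).map ρ)
  (hρh : HomogeneousIdeal.irrelevant ℬ' ≤ (HomogeneousIdeal.irrelevant ℬ).map ρh)
  (comm : ∀ a, ρh (ψ a) = ψ' (ρ a))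

include hρ comm in
theorem domSquare_mem (t : Proj ℬ') :
    Proj.map ρh hρh t ∈ RelCone.domOpen ψ ↔ t ∈ RelCone.domOpen ψ' := by
  constructor
  · intro h
    obtain ⟨i, hi⟩ := (mem_domOpen_iff ψ _).mp h
    refine (mem_domOpen_iff ψ' t).mpr ⟨⟨i.deg, ρ i.el, i.pos, ρ.map_mem i.mem⟩, ?_⟩
    have h1 : t ∈ Proj.map ρh hρh ⁻¹ᵁ Proj.basicOpen ℬ (ψ i.el) := hi
    rw [Proj.map_preimage_basicOpen, comm] at h1
    exact h1
  · intro h
    obtain ⟨f, hf, hft⟩ := (RelCone.mem_domOpen ψ' t).mp h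
    by_contra hc
    rw [RelCone.mem_domOpen] at hc
    push Not at hc
    refine hft ?_
    have h1 : (HomogeneousIdeal.irrelevant 𝒜').toIdeal ≤ Ideal.comap ψ' t.asHomogeneousIdeal.toIdeal := by
      refine le_trans hρ ?_
      show Ideal.map ρ _ ≤ _
      rw [Ideal.map_le_iff_le_comap]
      intro g hg
      show ψ' (ρ g) ∈ t.asHomogeneousIdeal.toIdeal
      rw [← comm g]
      exact hc g hg
    exact h1 hf

include hρ comm in
/-- The map between the domains of definition. -/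
theorem domSquare_range :
    Set.range ((RelCone.domOpen ψ').ι ≫ Proj.map ρh hρh) ⊆ Set.range (RelCone.domOpen ψ).ι := by
  rw [Scheme.Opens.range_ι]
  rintro _ ⟨v, rfl⟩
  exact (domSquare_mem hρ hρh comm v.1).mpr v.2

/-- The map between the domains of definition. -/
def domLift : (RelCone.domOpen ψ' : Scheme.{u}) ⟶ (RelCone.domOpen ψ : Scheme.{u}) :=
  IsOpenImmersion.lift (RelCone.domOpen ψ).ι ((RelCone.domOpen ψ').ι ≫ Proj.map ρh hρh) (domSquare_range hρ hρh comm)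

theorem domLift_ι : domLift hρ hρh comm ≫ (RelCone.domOpen ψ).ι = (RelCone.domOpen ψ').ι ≫ Proj.map ρh hρh :=
  IsOpenImmersion.lift_fac _ _ _

theorem domLift_dMap : domLift hρ hρh comm ≫ dMap ψ = dMap ψ' ≫ Proj.map ρ hρ := by
  refine (RelCone.domOpen ψ' : Scheme.{u}).hom_ext_of_forall _ _ fun x => ?_
  obtain ⟨i, hi⟩ := (mem_domOpen_iff ψ _).mp ((domSquare_mem hρ hρh comm x.1).mpr x.2)
  let i' : Idx 𝒜' := ⟨i.deg, ρ i.el, i.pos, ρ.map_mem i.mem⟩
  have hel : ρh (ψ i.el) = ψ' i'.el := comm i.el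
  have hx : x ∈ (dChart ψ' i').opensRange := by
    refine (dChart_opensRange ψ' i').ge ?_
    show x.1 ∈ Proj.basicOpen ℬ' (ψ' i'.el)
    rw [← hel, ← Proj.map_preimage_basicOpen ρh hρh]
    exact hi
  refine ⟨(dChart ψ' i').opensRange, hx, ?_⟩
  rw [← cancel_epi (dChart ψ' i').isoOpensRange.hom, Scheme.Hom.isoOpensRange_hom_ι_assoc,
    Scheme.Hom.isoOpensRange_hom_ι_assoc]
  have key : ∀ (e : B') (he : e ∈ ℬ' i.deg) (hee : ρh (ψ i.el) = e),
      ∃ k : Away ℬ (ψ i.el) →+* Away ℬ' e,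
        (∀ n a ha, k (Away.mk _ (ψ.2 i.mem) n a ha) = Away.mk _ he n (ρh a) (ρh.2 ha)) ∧
        Proj.awayι ℬ' e he i.pos ≫ Proj.map ρh hρh =
          Spec.map (CommRingCat.ofHom k) ≫ Proj.awayι ℬ (ψ i.el) (ψ.2 i.mem) i.pos := by
    intro e he hee
    subst hee
    exact ⟨Away.map ρh _, fun n a ha => Away.map_mk .., Proj.awayι_comp_map ρh _ i.pos _ _⟩
  obtain ⟨k, hk, hk'⟩ := key _ (ψ'.2 i'.mem) hel
  have h1 : dChart ψ' i' ≫ domLift hρ hρh comm = Spec.map (CommRingCat.ofHom k) ≫ dChart ψ i := by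
    rw [← cancel_mono (RelCone.domOpen ψ).ι, Category.assoc, Category.assoc, domLift_ι, dChart_ι, ← Category.assoc,
      dChart_ι]
    exact hk'
  have h2 : Proj.awayι 𝒜' i'.el i'.mem i'.pos ≫ Proj.map ρ hρ =
      Spec.map (CommRingCat.ofHom (Away.map ρ i.el)) ≫ Proj.awayι 𝒜 i.el i.mem i.pos :=
    Proj.awayι_comp_map ρ hρ i.pos _ _
  have hEq : k.comp (Away.map ψ i.el) = (Away.map ψ' i'.el).comp (Away.map ρ i.el) := by
    refine RingHom.ext fun a => ?_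
    obtain ⟨n, b, hb, rfl⟩ := a.mk_surjective _ i.mem
    simp only [RingHom.comp_apply, Away.map_mk]
    rw [hk n _ _]
    refine val_injective _ ?_
    rw [Away.val_mk]
    erw [Away.map_mk, Away.map_mk, Away.val_mk]
    rw [comm b]
    rfl
  rw [reassoc_of% h1, dChart_dMap, ← Category.assoc (dChart ψ' i'), dChart_dMap, dTarget, dTarget, Category.assoc,
    h2, ← Spec.map_comp_assoc, ← Spec.map_comp_assoc, ← CommRingCat.ofHom_comp, ← CommRingCat.ofHom_comp, hEq]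

end RelConeLib

end
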