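import Groth.Prelude.Def_RelProj4
import Groth.Agent.RelConeLib.Charts
import Groth.Agent.RelConeLib.DomSquare

/-!
# `Proj(u)` on its open of definition
-/

set_option autoImplicit false
universe u

open CategoryTheory CategoryTheory.Limits AlgebraicGeometry TopologicalSpace Opposite HomogeneousLocalization
open ConeRetrLib (Idx)
open scoped HomogeneousIdeal

noncomputable section

namespace RelConeLib

/-- Two affine opens have a common basic open around a point, inside a given neighbourhood. -/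
theorem exists_common_basicOpen {X : Scheme.{u}} {U V O : X.Opens} (hU : IsAffineOpen U) (hV : IsAffineOpen V)
    (x : X) (hxU : x ∈ U) (hxV : x ∈ V) (hxO : x ∈ O) :
    ∃ (r : Γ(X, U)) (r' : Γ(X, V)), X.basicOpen r = X.basicOpen r' ∧ x ∈ X.basicOpen r ∧ X.basicOpen r ≤ O := by
  obtain ⟨r, r', e, hx⟩ := exists_basicOpen_le_affine_inter hU hV x ⟨hxU, hxV⟩
  obtain ⟨s, hsO, hxs⟩ := (hU.basicOpen r).exists_basicOpen_le ⟨x, hxO⟩ hx
  obtain ⟨a, ha⟩ := hU.basicOpen_basicOpen_is_basicOpen r s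
  have key : ∀ W : X.Opens, W = X.basicOpen r' → ∀ s : Γ(X, W), ∃ b : Γ(X, V), X.basicOpen b = X.basicOpen s := by
    rintro W rfl s
    exact hV.basicOpen_basicOpen_is_basicOpen r' s
  obtain ⟨b, hb⟩ := key _ e s
  exact ⟨a, b, ha.trans hb.symm, ha ▸ hxs, ha ▸ hsO⟩

variable {Y Y' P P' : Scheme.{u}} {g : Y' ⟶ Y} {𝒮 : RelProj.QCGrAlg Y} {𝒮' : RelProj.QCGrAlg Y'}
  (u : RelProj.QGrHom g 𝒮 𝒮') {p : P ⟶ Y}
  {chart : ∀ (U : Y.Opens) (hU : IsAffineOpen U), (((p ⁻¹ᵁ U : P.Opens) : Scheme.{u}) ≅ Proj (𝒮.deg U hU))}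
  (hP : RelProj.IsRelProj 𝒮 p chart) {p' : P' ⟶ Y'}
  {chart' : ∀ (U : Y'.Opens) (hU : IsAffineOpen U), (((p' ⁻¹ᵁ U : P'.Opens) : Scheme.{u}) ≅ Proj (𝒮'.deg U hU))}
  (hP' : RelProj.IsRelProj 𝒮' p' chart')

/-- An affine pair. -/
structure Pair (g : Y' ⟶ Y) where
  U : Y.Opens
  hU : IsAffineOpen U
  U' : Y'.Opens
  hU' : IsAffineOpen U'
  le : U' ≤ g ⁻¹ᵁ U

/-- The graded homomorphism of a pair. -/
abbrev Pair.hom (j : Pair g) : 𝒮.deg j.U j.hU →+*ᵍ 𝒮'.deg j.U' j.hU' := u.gradedAt j.U j.hU j.U' j.hU' j.le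

theorem gradedAt_res (U : Y.Opens) (hU : IsAffineOpen U) (U' : Y'.Opens) (hU' : IsAffineOpen U') (hle : U' ≤ g ⁻¹ᵁ U)
    (V : Y.Opens) (hV : IsAffineOpen V) (V' : Y'.Opens) (hV' : IsAffineOpen V') (hle' : V' ≤ g ⁻¹ᵁ V)
    (h : V ≤ U) (h' : V' ≤ U') (a : 𝒮.presheaf.obj (op U)) :
    𝒮'.res hU' hV' h' (u.gradedAt U hU U' hU' hle a) = u.gradedAt V hV V' hV' hle' (𝒮.res hU hV h a) := by
  have e1 := congrArg (fun f => f.hom a) (u.toQHom.appLE_map hle h')
  have e2 := congrArg (fun f => f.hom a) (u.toQHom.map_appLE h hle')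
  exact e1.trans e2.symm

/-- A pair refining another one by basic opens, compatibly with the domains of definition. -/
theorem exists_refine (j : Pair g) (r : Γ(Y, j.U)) (r' : Γ(Y', j.U')) (k : Pair g) (e : k.U = Y.basicOpen r)
    (e' : k.U' = Y'.basicOpen r') :
    ∃ (hρh : HomogeneousIdeal.irrelevant (𝒮'.deg k.U' k.hU') ≤
        (HomogeneousIdeal.irrelevant (𝒮'.deg j.U' j.hU')).map (𝒮'.res j.hU' k.hU' (e'.le.trans (Y'.basicOpen_le r'))))
      (hρ : HomogeneousIdeal.irrelevant (𝒮.deg k.U k.hU) ≤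
        (HomogeneousIdeal.irrelevant (𝒮.deg j.U j.hU)).map (𝒮.res j.hU k.hU (e.le.trans (Y.basicOpen_le r)))),
      (∀ {P' : Scheme.{u}} {p' : P' ⟶ Y'} {chart' : ∀ (U : Y'.Opens) (hU : IsAffineOpen U),
          (((p' ⁻¹ᵁ U : P'.Opens) : Scheme.{u}) ≅ Proj (𝒮'.deg U hU))} (hP' : RelProj.IsRelProj 𝒮' p' chart'),
        Proj.map _ hρh ≫ RelProj.emb p' chart' j.U' j.hU' = RelProj.emb p' chart' k.U' k.hU') ∧
      (∀ {P : Scheme.{u}} {p : P ⟶ Y} {chart : ∀ (U : Y.Opens) (hU : IsAffineOpen U),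
          (((p ⁻¹ᵁ U : P.Opens) : Scheme.{u}) ≅ Proj (𝒮.deg U hU))} (hP : RelProj.IsRelProj 𝒮 p chart),
        Proj.map _ hρ ≫ RelProj.emb p chart j.U j.hU = RelProj.emb p chart k.U k.hU) := by
  obtain ⟨U, hU, U', hU', le⟩ := k
  dsimp only at e e'
  subst e e'
  exact ⟨𝒮'.irrelevant_le_map _ j.hU' r', 𝒮.irrelevant_le_map _ j.hU r,
    fun hP' => RelProj.map_res_emb hP' _ j.hU' r', fun hP => RelProj.map_res_emb hP _ j.hU r⟩

include hP' in
theorem exists_common (i j : Pair g) (x : P') (hi : p' x ∈ i.U') (hj : p' x ∈ j.U') :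
    ∃ (k : Pair g) (r : Γ(Y, i.U)) (r' : Γ(Y', i.U')) (s : Γ(Y, j.U)) (s' : Γ(Y', j.U')),
      k.U = Y.basicOpen r ∧ k.U' = Y'.basicOpen r' ∧ k.U = Y.basicOpen s ∧ k.U' = Y'.basicOpen s' ∧ p' x ∈ k.U' := by
  obtain ⟨r, s, e, hr⟩ := exists_basicOpen_le_affine_inter i.hU j.hU (g (p' x)) ⟨i.le hi, j.le hj⟩
  obtain ⟨r', s', e', hr', hO⟩ := exists_common_basicOpen (O := g ⁻¹ᵁ Y.basicOpen r) i.hU' j.hU' (p' x) hi hj hr
  exact ⟨⟨_, i.hU.basicOpen r, _, i.hU'.basicOpen r', hO⟩, r, r', s, s', rfl, rfl, e, e', hr'⟩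

include hP' in
theorem emb_preimage_domQ (j : Pair g) :
    RelProj.emb p' chart' j.U' j.hU' ⁻¹ᵁ RelProj.domQ u p' chart' = RelCone.domOpen (j.hom u) := by
  ext v
  constructor
  · intro hv
    obtain ⟨⟨⟨⟨V, hV⟩, ⟨V', hV'⟩⟩, hle⟩, w, hw, hwv⟩ := Opens.mem_iSup.mp hv
    let i : Pair g := ⟨V, hV, V', hV', hle⟩
    have h1 : p' (RelProj.emb p' chart' j.U' j.hU' v) ∈ i.U' := by rw [← hwv]; exact mem_of_emb w
    obtain ⟨k, r, r', s, s', e1, e2, e3, e4, hx⟩ := exists_common hP' j i _ (mem_of_emb v) h1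
    obtain ⟨t, ht⟩ := exists_emb_eq (chart := chart') k.hU' _ hx
    obtain ⟨hρh, hρ, hemb, -⟩ := exists_refine (𝒮 := 𝒮) (𝒮' := 𝒮') j r r' k e1 e2
    obtain ⟨hσh, hσ, hemb', -⟩ := exists_refine (𝒮 := 𝒮) (𝒮' := 𝒮') i s s' k e3 e4
    have hv' : Proj.map _ hρh t = v := by
      refine (RelProj.emb p' chart' j.U' j.hU').isOpenEmbedding.injective ?_
      rw [← Scheme.Hom.comp_apply, hemb hP']
      exact ht
    have hw' : Proj.map _ hσh t = w := by
      refine (RelProj.emb p' chart' i.U' i.hU').isOpenEmbedding.injective ?_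
      rw [← Scheme.Hom.comp_apply, hemb' hP']
      exact ht.trans hwv.symm
    rw [← hv']
    refine (domSquare_mem hρ hρh (fun a => gradedAt_res u _ _ _ _ j.le _ k.hU _ k.hU' k.le _ _ a) t).mpr ?_
    refine (domSquare_mem hσ hσh (fun a => gradedAt_res u _ _ _ _ i.le _ k.hU _ k.hU' k.le _ _ a) t).mp ?_
    rw [hw']
    exact hw
  · intro hv
    exact Opens.mem_iSup.mpr ⟨⟨(⟨j.U, j.hU⟩, ⟨j.U', j.hU'⟩), j.le⟩, v, hv, rfl⟩

/-- The chart of `G(u)` over a pair. -/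
def qEmb (j : Pair g) : (RelCone.domOpen (j.hom u) : Scheme.{u}) ⟶ (RelProj.domQ u p' chart' : Scheme.{u}) :=
  IsOpenImmersion.lift (RelProj.domQ u p' chart').ι
    ((RelCone.domOpen (j.hom u)).ι ≫ RelProj.emb p' chart' j.U' j.hU') (by
      rw [Scheme.Opens.range_ι]
      rintro _ ⟨v, rfl⟩
      exact Opens.mem_iSup.mpr ⟨⟨(⟨j.U, j.hU⟩, ⟨j.U', j.hU'⟩), j.le⟩, v.1, v.2, rfl⟩)

theorem qEmb_ι (j : Pair g) :
    qEmb u (chart' := chart') j ≫ (RelProj.domQ u p' chart').ι =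
      (RelCone.domOpen (j.hom u)).ι ≫ RelProj.emb p' chart' j.U' j.hU' :=
  IsOpenImmersion.lift_fac _ _ _

instance (j : Pair g) : IsOpenImmersion (qEmb u (chart' := chart') j) := by
  haveI : IsOpenImmersion (qEmb u (chart' := chart') j ≫ (RelProj.domQ u p' chart').ι) := by
    rw [qEmb_ι]; infer_instance
  exact IsOpenImmersion.of_comp _ (RelProj.domQ u p' chart').ι

include hP' in
theorem qEmb_opensRange (j : Pair g) :
    (qEmb u (chart' := chart') j).opensRange = ((RelProj.domQ u p' chart').ι ≫ p') ⁻¹ᵁ j.U' := by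
  ext x
  constructor
  · rintro ⟨v, rfl⟩
    show p' ((qEmb u (chart' := chart') j ≫ (RelProj.domQ u p' chart').ι) v) ∈ j.U'
    rw [qEmb_ι]
    exact mem_of_emb _
  · intro hx
    obtain ⟨v, hv⟩ := exists_emb_eq (chart := chart') j.hU' x.1 hx
    have hv' : v ∈ RelProj.emb p' chart' j.U' j.hU' ⁻¹ᵁ RelProj.domQ u p' chart' :=
      show RelProj.emb p' chart' j.U' j.hU' v ∈ RelProj.domQ u p' chart' from hv ▸ x.2
    rw [emb_preimage_domQ u hP'] at hv'
    refine ⟨⟨v, hv'⟩, (RelProj.domQ u p' chart').ι.isOpenEmbedding.injective ?_⟩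
    rw [← Scheme.Hom.comp_apply, qEmb_ι]
    exact hv

theorem exists_pair (y : Y') : ∃ j : Pair g, y ∈ j.U' := by
  obtain ⟨U, hU, hy, -⟩ := exists_isAffineOpen_mem_and_subset (x := g y) (U := ⊤) trivial
  obtain ⟨U', hU', hy', hle⟩ := exists_isAffineOpen_mem_and_subset (x := y) (U := g ⁻¹ᵁ U) hy
  exact ⟨⟨U, hU, U', hU', hle⟩, hy'⟩

include hP' in
theorem qEmb_cover (x : (RelProj.domQ u p' chart' : Scheme.{u})) :
    ∃ j : Pair g, x ∈ (qEmb u (chart' := chart') j).opensRange := by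
  obtain ⟨j, hj⟩ := exists_pair (g := g) (p' x.1)
  exact ⟨j, (qEmb_opensRange u hP' j).ge hj⟩

/-- `Proj(u)` on a chart. -/
def qTarget (j : Pair g) : (RelCone.domOpen (j.hom u) : Scheme.{u}) ⟶ P :=
  dMap (j.hom u) ≫ RelProj.emb p chart j.U j.hU

include hP hP' in
theorem qEmb_refine (i k : Pair g) (r : Γ(Y, i.U)) (r' : Γ(Y', i.U')) (e : k.U = Y.basicOpen r)
    (e' : k.U' = Y'.basicOpen r') :
    ∃ l : (RelCone.domOpen (k.hom u) : Scheme.{u}) ⟶ (RelCone.domOpen (i.hom u) : Scheme.{u}),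
      l ≫ qEmb u (chart' := chart') i = qEmb u (chart' := chart') k ∧
        l ≫ qTarget u (chart := chart) i = qTarget u (chart := chart) k := by
  obtain ⟨hρh, hρ, hemb', hemb⟩ := exists_refine (𝒮 := 𝒮) (𝒮' := 𝒮') i r r' k e e'
  refine ⟨domLift hρ hρh (fun a => gradedAt_res u _ _ _ _ i.le _ k.hU _ k.hU' k.le _ _ a), ?_, ?_⟩
  · rw [← cancel_mono (RelProj.domQ u p' chart').ι, Category.assoc, qEmb_ι, qEmb_ι, reassoc_of% domLift_ι, hemb' hP']
  · rw [qTarget, qTarget, ← Category.assoc, domLift_dMap, Category.assoc, hemb hP]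

include hP hP' in
theorem existsUnique_qMap :
    ∃! v : (RelProj.domQ u p' chart' : Scheme.{u}) ⟶ P,
      ∀ j : Pair g, qEmb u (chart' := chart') j ≫ v = qTarget u (chart := chart) j := by
  refine existsUnique_glue_local (fun j : Pair g => qEmb u (chart' := chart') j)
    (fun j => qTarget u (chart := chart) j) (qEmb_cover u hP') fun i j x hx hx' => ?_
  obtain ⟨k, r, r', s, s', e1, e2, e3, e4, hxk⟩ := exists_common hP' i j x.1 ((qEmb_opensRange u hP' i).le hx)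
    ((qEmb_opensRange u hP' j).le hx')
  obtain ⟨l, hl, hlt⟩ := qEmb_refine u hP hP' i k r r' e1 e2
  obtain ⟨l', hl', hlt'⟩ := qEmb_refine u hP hP' j k s s' e3 e4
  exact ⟨k, l, l', (qEmb_opensRange u hP' k).ge hxk, hl, hl', hlt, hlt'⟩

theorem isProjQMapOn_iff (v : (RelProj.domQ u p' chart' : Scheme.{u}) ⟶ P) :
    RelProj.IsProjQMapOn u p chart p' chart' (RelProj.domQ u p' chart') v ↔
      ∀ j : Pair g, qEmb u (chart' := chart') j ≫ v = qTarget u (chart := chart) j := by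
  have hd : ∀ (j : Pair g) (i : Idx (𝒮.deg j.U j.hU)),
      (dChart (j.hom u) i ≫ qEmb u (chart' := chart') j) ≫ (RelProj.domQ u p' chart').ι =
        RelProj.awayEmb u p' chart' j.U j.hU j.U' j.hU' j.le i.pos i.el i.mem := by
    intro j i
    rw [Category.assoc, qEmb_ι, reassoc_of% (dChart_ι (j.hom u) i)]
    rfl
  have hlift : ∀ (j : Pair g) (i : Idx (𝒮.deg j.U j.hU)) (hW),
      IsOpenImmersion.lift (RelProj.domQ u p' chart').ι
        (RelProj.awayEmb u p' chart' j.U j.hU j.U' j.hU' j.le i.pos i.el i.mem) hW =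
      dChart (j.hom u) i ≫ qEmb u (chart' := chart') j := by
    intro j i hW
    rw [← cancel_mono (RelProj.domQ u p' chart').ι, IsOpenImmersion.lift_fac, hd]
  constructor
  · intro h j
    refine ext_of_charts _ _ fun x => ?_
    obtain ⟨i, hi⟩ := dChart_cover (j.hom u) x
    refine ⟨_, dChart (j.hom u) i, inferInstance, hi, ?_⟩
    have hW : Set.range (RelProj.awayEmb u p' chart' j.U j.hU j.U' j.hU' j.le i.pos i.el i.mem).base ⊆
        Set.range (RelProj.domQ u p' chart').ι.base := by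
      rw [← hd]
      rintro _ ⟨y, rfl⟩
      exact ⟨(dChart (j.hom u) i ≫ qEmb u (chart' := chart') j) y, rfl⟩
    have h1 := h j.U j.hU j.U' j.hU' j.le i.deg i.pos i.el i.mem hW
    rw [hlift] at h1
    rw [← Category.assoc, h1, qTarget, reassoc_of% (dChart_dMap (j.hom u) i), dTarget, Category.assoc]
  · intro h U hU U' hU' hle d hd' f hf hW
    let j : Pair g := ⟨U, hU, U', hU', hle⟩
    let i : Idx (𝒮.deg j.U j.hU) := ⟨d, f, hd', hf⟩
    rw [hlift j i hW, Category.assoc, h j, qTarget, reassoc_of% (dChart_dMap (j.hom u) i), dTarget, Category.assoc]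

include hP hP' in
theorem existsUnique_isProjQMapOn :
    ∃! v : (RelProj.domQ u p' chart' : Scheme.{u}) ⟶ P,
      RelProj.IsProjQMapOn u p chart p' chart' (RelProj.domQ u p' chart') v := by
  obtain ⟨v, hv, huniq⟩ := existsUnique_qMap u hP hP'
  exact ⟨v, (isProjQMapOn_iff u v).mpr hv, fun w hw => huniq w ((isProjQMapOn_iff u w).mp hw)⟩

include hP hP' in
theorem qMap_over {v : (RelProj.domQ u p' chart' : Scheme.{u}) ⟶ P}
    (hv : RelProj.IsProjQMapOn u p chart p' chart' (RelProj.domQ u p' chart') v) :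
    v ≫ p = (RelProj.domQ u p' chart').ι ≫ p' ≫ g := by
  refine ext_of_charts _ _ fun x => ?_
  obtain ⟨j, hx⟩ := qEmb_cover u hP' x
  refine ⟨_, qEmb u (chart' := chart') j, inferInstance, hx, ?_⟩
  rw [← Category.assoc, (isProjQMapOn_iff u v).mp hv j, ← Category.assoc (qEmb u (chart' := chart') j),
    qEmb_ι, qTarget, Category.assoc, Category.assoc, emb_over hP, reassoc_of% (emb_over (chart := chart') hP' j.U' j.hU')]
  refine ext_of_charts _ _ fun w => ?_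
  obtain ⟨i, hi⟩ := dChart_cover (j.hom u) w
  refine ⟨_, dChart (j.hom u) i, inferInstance, hi, ?_⟩
  rw [reassoc_of% (dChart_dMap (j.hom u) i), reassoc_of% (dChart_ι (j.hom u) i), dTarget, Category.assoc,
    Proj.awayι_toSpecZero_assoc, Proj.awayι_toSpecZero_assoc, ← Spec.map_comp_assoc, ← Spec.map_comp_assoc,
    ← IsAffineOpen.SpecMap_appLE_fromSpec g j.hU j.hU' j.le, ← Spec.map_comp_assoc, ← Spec.map_comp_assoc]
  congr 2
  refine CommRingCat.hom_ext (RingHom.ext fun a => val_injective _ ?_)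
  simp only [CommRingCat.hom_comp, CommRingCat.hom_ofHom, RingHom.comp_apply]
  show HomogeneousLocalization.val (Away.map (j.hom u) i.el (HomogeneousLocalization.mk
    ⟨0, (𝒮.strZero j.U j.hU).hom a, (1 : 𝒮.deg j.U j.hU 0), one_mem _⟩)) = HomogeneousLocalization.val
      (HomogeneousLocalization.mk (x := Submonoid.powers (j.hom u i.el))
        ⟨0, (𝒮'.strZero j.U' j.hU').hom ((g.appLE j.U j.U' j.le).hom a), (1 : 𝒮'.deg j.U' j.hU' 0), one_mem _⟩)
  erw [HomogeneousLocalization.map_mk]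
  simp [HomogeneousLocalization.val_mk]
  congr 1
  exact congrArg (fun f => f.hom a) (u.toQHom.str_appLE j.U j.U' j.le)

include hP' in
theorem range_qEmb_inf (j : Pair g) :
    RelProj.domQ u p' chart' ⊓ p' ⁻¹ᵁ j.U' =
      RelProj.emb p' chart' j.U' j.hU' ''ᵁ RelCone.domOpen (j.hom u) := by
  rw [← emb_preimage_domQ u hP', Scheme.Hom.image_preimage_eq_opensRange_inf, emb_opensRange, inf_comm]

end RelConeLib

end
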