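import Groth.Agent.RelConeLib.Spec

/-!
# The morphism of relative spectra induced by a `q`-morphism
-/

set_option autoImplicit false
universe u

open CategoryTheory CategoryTheory.Limits AlgebraicGeometry TopologicalSpace Opposite

noncomputable section

namespace RelConeLib

variable {S S' : Scheme.{u}} (q : S' ⟶ S) (B : RelSpec.QCAlg S) (B' : RelSpec.QCAlg S')
  (u : B.presheaf ⟶ q.base _* B'.presheaf)

/-- The component over a pair of opens. -/
def comp (U : S.Opens) (U' : S'.Opens) (hle : U' ≤ q ⁻¹ᵁ U) :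
    B.presheaf.obj (op U) ⟶ B'.presheaf.obj (op U') :=
  (u.app (op U) : B.presheaf.obj (op U) ⟶ B'.presheaf.obj (op (q ⁻¹ᵁ U))) ≫ B'.presheaf.map (homOfLE hle).op

theorem comp_res {U V : S.Opens} {U' V' : S'.Opens} (hle : U' ≤ q ⁻¹ᵁ U) (hle' : V' ≤ q ⁻¹ᵁ V) (h : V ≤ U)
    (h' : V' ≤ U') :
    comp q B B' u U U' hle ≫ B'.presheaf.map (homOfLE h').op =
      B.presheaf.map (homOfLE h).op ≫ comp q B B' u V V' hle' := by
  rw [comp, comp, Category.assoc, ← Functor.map_comp, ← op_comp, homOfLE_comp]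
  have hn : B.presheaf.map (homOfLE h).op ≫ (u.app (op V) : B.presheaf.obj (op V) ⟶ B'.presheaf.obj (op (q ⁻¹ᵁ V))) =
      (u.app (op U) : B.presheaf.obj (op U) ⟶ B'.presheaf.obj (op (q ⁻¹ᵁ U))) ≫
        B'.presheaf.map (homOfLE (q.preimage_mono h)).op := u.naturality (homOfLE h).op
  rw [← Category.assoc, hn, Category.assoc, ← Functor.map_comp, ← op_comp, homOfLE_comp]

theorem existsUnique_specMap :
    ∃! v : B'.spec ⟶ B.spec, ∀ (U : S.Opens) (hU : IsAffineOpen U) (U' : S'.Opens) (hU' : IsAffineOpen U')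
      (hle : U' ≤ q ⁻¹ᵁ U), B'.ι U' hU' ≫ v = Spec.map (comp q B B' u U U' hle) ≫ B.ι U hU := by
  let J := {P : S.affineOpens × S'.affineOpens // P.2.1 ≤ q ⁻¹ᵁ P.1.1}
  let 𝒰 : B'.spec.OpenCover :=
    { I₀ := J
      X := fun j => Spec (B'.presheaf.obj (op j.1.2.1))
      f := fun j => B'.ι j.1.2.1 j.1.2.2
      mem₀ := by
        rw [Scheme.presieve₀_mem_precoverage_iff]
        refine ⟨fun x => ?_, fun j => inferInstanceAs (IsOpenImmersion (B'.ι j.1.2.1 j.1.2.2))⟩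
        obtain ⟨U, hU, U', hU', hle, z, hz⟩ := exists_chart_pair q B' x
        exact ⟨⟨⟨⟨U, hU⟩, ⟨U', hU'⟩⟩, hle⟩, z, hz⟩ }
  let f : ∀ j : J, Spec (B'.presheaf.obj (op j.1.2.1)) ⟶ B.spec := fun j =>
    Spec.map (comp q B B' u j.1.1.1 j.1.2.1 j.2) ≫ B.ι j.1.1.1 j.1.1.2
  have hf : ∀ i j : J, pullback.fst (𝒰.f i) (𝒰.f j) ≫ f i = pullback.snd (𝒰.f i) (𝒰.f j) ≫ f j := by
    intro i j
    refine ext_of_charts _ _ fun w => ?_
    let k := pullback.fst (𝒰.f i) (𝒰.f j) ≫ B'.ι i.1.2.1 i.1.2.2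
    have hk : k = pullback.snd (𝒰.f i) (𝒰.f j) ≫ B'.ι j.1.2.1 j.1.2.2 := pullback.condition
    let y := B'.π (k w)
    have h1 : y ∈ i.1.2.1 := preimage_π_ι B' i.1.2.2 _
    have h2 : y ∈ j.1.2.1 := by
      show B'.π (k w) ∈ _
      rw [hk]
      exact preimage_π_ι B' j.1.2.2 _
    obtain ⟨r, r', e, hr⟩ := exists_basicOpen_le_affine_inter i.1.1.2 j.1.1.2 (q y) ⟨i.2 h1, j.2 h2⟩
    obtain ⟨V, hV, hyV, hVle⟩ := exists_isAffineOpen_mem_and_subset (x := y)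
      (U := i.1.2.1 ⊓ j.1.2.1 ⊓ q ⁻¹ᵁ (S.basicOpen r)) ⟨⟨h1, h2⟩, hr⟩
    have hVi : V ≤ i.1.2.1 := fun a ha => (hVle ha).1.1
    have hVj : V ≤ j.1.2.1 := fun a ha => (hVle ha).1.2
    have hVq : V ≤ q ⁻¹ᵁ (S.basicOpen r) := fun a ha => (hVle ha).2
    refine ⟨_, pullback.fst k (B'.ι V hV), inferInstance, ?_, ?_⟩
    · rw [Scheme.Pullback.range_fst]
      exact exists_ι_eq B' hV (k w) hyV
    · have e1 : pullback.fst k (B'.ι V hV) ≫ pullback.fst (𝒰.f i) (𝒰.f j) =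
          pullback.snd k (B'.ι V hV) ≫ Spec.map (B'.presheaf.map (homOfLE hVi).op) := by
        rw [← cancel_mono (B'.ι i.1.2.1 i.1.2.2), Category.assoc, Category.assoc,
          ι_res_le B' i.1.2.2 hV hVi]
        exact pullback.condition
      have e2 : pullback.fst k (B'.ι V hV) ≫ pullback.snd (𝒰.f i) (𝒰.f j) =
          pullback.snd k (B'.ι V hV) ≫ Spec.map (B'.presheaf.map (homOfLE hVj).op) := by
        rw [← cancel_mono (B'.ι j.1.2.1 j.1.2.2), Category.assoc, Category.assoc,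
          ι_res_le B' j.1.2.2 hV hVj]
        exact (congrArg (pullback.fst k (B'.ι V hV) ≫ ·) hk.symm).trans pullback.condition
      rw [reassoc_of% e1, reassoc_of% e2]
      congr 1
      simp only [f]
      rw [← Spec.map_comp_assoc, ← Spec.map_comp_assoc, comp_res q B B' u i.2 hVq (S.basicOpen_le r) hVi,
        comp_res q B B' u j.2 hVq (e.le.trans (S.basicOpen_le r')) hVj, Spec.map_comp_assoc, Spec.map_comp_assoc,
        ι_res_le B i.1.1.2 (i.1.1.2.basicOpen r), ι_res_le B j.1.1.2 (i.1.1.2.basicOpen r)]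
  refine ⟨𝒰.glueMorphisms f hf, fun U hU U' hU' hle => 𝒰.ι_glueMorphisms f hf ⟨⟨⟨U, hU⟩, ⟨U', hU'⟩⟩, hle⟩,
    fun v hv => ?_⟩
  refine 𝒰.hom_ext _ _ fun j => ?_
  exact (hv _ j.1.1.2 _ j.1.2.2 j.2).trans (𝒰.ι_glueMorphisms f hf j).symm

theorem comp_str (hu : B.str ≫ u = q.c ≫ (TopCat.Presheaf.pushforward CommRingCat.{u} q.base).map B'.str)
    (U : S.Opens) (U' : S'.Opens) (hle : U' ≤ q ⁻¹ᵁ U) :
    B.str.app (op U) ≫ comp q B B' u U U' hle = q.appLE U U' hle ≫ B'.str.app (op U') := by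
  have h := NatTrans.congr_app hu (op U)
  rw [comp, Scheme.Hom.appLE, Category.assoc, B'.str.naturality]
  exact (Category.assoc _ _ _).symm.trans (congrArg (· ≫ B'.presheaf.map (homOfLE hle).op) h) |>.trans
    (Category.assoc _ _ _)

theorem specMap_over (hu : B.str ≫ u = q.c ≫ (TopCat.Presheaf.pushforward CommRingCat.{u} q.base).map B'.str)
    (v : B'.spec ⟶ B.spec) (hv : ∀ (U : S.Opens) (hU : IsAffineOpen U) (U' : S'.Opens) (hU' : IsAffineOpen U')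
      (hle : U' ≤ q ⁻¹ᵁ U), B'.ι U' hU' ≫ v = Spec.map (comp q B B' u U U' hle) ≫ B.ι U hU) :
    v ≫ B.π = B'.π ≫ q := by
  refine ext_of_charts _ _ fun x => ?_
  obtain ⟨U, hU, U', hU', hle, z, hz⟩ := exists_chart_pair q B' x
  refine ⟨_, B'.ι U' hU', inferInstance, ⟨z, hz⟩, ?_⟩
  rw [← Category.assoc, hv U hU U' hU' hle, Category.assoc, B.ι_π, reassoc_of% (B'.ι_π U' hU'),
    ← Spec.map_comp_assoc, comp_str q B B' u hu, Spec.map_comp_assoc,
    IsAffineOpen.SpecMap_appLE_fromSpec q hU hU' hle]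

end RelConeLib

end
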