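import Groth.Prelude.Def_RelSpec2
import Mathlib.RingTheory.GradedAlgebra.Radical
import Groth.Agent.RelConeLib.SpecMap

/-!
# The pointed cone and the vertex over a general base
-/

set_option autoImplicit false
universe u

open CategoryTheory CategoryTheory.Limits AlgebraicGeometry TopologicalSpace Opposite
open scoped HomogeneousIdeal

noncomputable section

namespace RelConeLib

variable {Y : Scheme.{u}} (𝒮 : RelProj.QCGrAlg Y)

theorem mem_vertexCompl {U : Y.Opens} (hU : IsAffineOpen U) (z : Spec (𝒮.presheaf.obj (op U))) :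
    z ∈ RelCone.vertexCompl (𝒮.deg U hU) ↔
      ¬ (HomogeneousIdeal.irrelevant (𝒮.deg U hU)).toIdeal ≤ z.asIdeal := Iff.rfl

theorem res_mem_irrelevant {U V : Y.Opens} (hU : IsAffineOpen U) (hV : IsAffineOpen V) (h : V ≤ U)
    {a : 𝒮.presheaf.obj (op U)} (ha : a ∈ (HomogeneousIdeal.irrelevant (𝒮.deg U hU)).toIdeal) :
    𝒮.res hU hV h a ∈ (HomogeneousIdeal.irrelevant (𝒮.deg V hV)).toIdeal := by
  classical
  rw [← DirectSum.sum_support_decompose (𝒮.deg U hU) a, map_sum]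
  refine Ideal.sum_mem _ fun n hn => ?_
  rcases Nat.eq_zero_or_pos n with rfl | hpos
  · have h0 : (DirectSum.decompose (𝒮.deg U hU) a 0 : 𝒮.presheaf.obj (op U)) = 0 := ha
    rw [h0, map_zero]
    exact zero_mem _
  · exact HomogeneousIdeal.mem_irrelevant_of_mem _ hpos ((𝒮.res hU hV h).map_mem (SetLike.coe_mem _))

theorem mem_vertexCompl_basicOpen {U : Y.Opens} (hU : IsAffineOpen U) (r : Γ(Y, U))
    (t : Spec (𝒮.presheaf.obj (op (Y.basicOpen r)))) :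
    Spec.map (𝒮.presheaf.map (homOfLE (Y.basicOpen_le r)).op) t ∈ RelCone.vertexCompl (𝒮.deg U hU) ↔
      t ∈ RelCone.vertexCompl (𝒮.deg _ (hU.basicOpen r)) := by
  rw [mem_vertexCompl, mem_vertexCompl, not_iff_not]
  constructor
  · intro h
    refine le_trans (𝒮.irrelevant_le_map U hU r) ?_
    show Ideal.map (𝒮.res hU (hU.basicOpen r) (Y.basicOpen_le r)) _ ≤ _
    rw [Ideal.map_le_iff_le_comap]
    exact h
  · intro h a ha
    exact h (res_mem_irrelevant 𝒮 hU (hU.basicOpen r) (Y.basicOpen_le r) ha)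

theorem ι_preimage_pointedCone {U : Y.Opens} (hU : IsAffineOpen U) :
    𝒮.toQCAlg.ι U hU ⁻¹ᵁ RelCone.pointedCone 𝒮 = RelCone.vertexCompl (𝒮.deg U hU) := by
  ext z
  constructor
  · intro hz
    obtain ⟨⟨V, hV⟩, w, hw, hwz⟩ := Opens.mem_iSup.mp hz
    have h1 : 𝒮.toQCAlg.π (𝒮.toQCAlg.ι U hU z) ∈ V := by rw [← hwz]; exact preimage_π_ι 𝒮.toQCAlg hV w
    obtain ⟨r, r', e, hr⟩ := exists_basicOpen_le_affine_inter hU hV _ ⟨preimage_π_ι 𝒮.toQCAlg hU z, h1⟩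
    obtain ⟨t, rfl⟩ := exists_res_eq 𝒮.toQCAlg hU r z hr
    refine (mem_vertexCompl_basicOpen 𝒮 hU r t).mpr ?_
    have key : ∀ (W : Y.Opens) (hW : IsAffineOpen W) (_ : Y.basicOpen r' = W)
        (t : Spec (𝒮.presheaf.obj (op W))), 𝒮.toQCAlg.ι W hW t = 𝒮.toQCAlg.ι V hV w →
          t ∈ RelCone.vertexCompl (𝒮.deg W hW) := by
      rintro W hW rfl t ht
      refine (mem_vertexCompl_basicOpen 𝒮 hV r' t).mp ?_
      have : Spec.map (𝒮.presheaf.map (homOfLE (Y.basicOpen_le r')).op) t = w := by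
        refine (𝒮.toQCAlg.ι V hV).isOpenEmbedding.injective ?_
        rw [← Scheme.Hom.comp_apply, ι_res_basicOpen 𝒮.toQCAlg hV r' hW rfl]
        exact ht
      rw [this]
      exact hw
    refine key _ (hU.basicOpen r) e.symm t (Eq.trans ?_ hwz.symm)
    rw [← ι_res_basicOpen 𝒮.toQCAlg hU r (hU.basicOpen r) rfl (Y.basicOpen_le r)]
    rfl
  · intro hz
    exact Opens.mem_iSup.mpr ⟨⟨U, hU⟩, z, hz, rfl⟩

variable {𝒮} {aug : 𝒮.toQCAlg ⟶ RelSpec.QCAlg.unit Y}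

theorem aug_str (U : Y.Opens) (r : Γ(Y, U)) : (aug.hom.app (op U)).hom ((𝒮.str.app (op U)).hom r) = r := by
  have h := NatTrans.congr_app aug.comm (op U)
  exact RingHom.congr_fun (congrArg CommRingCat.Hom.hom h) r

theorem ker_aug (h0 : RelCone.StrZeroBij 𝒮) (haug : RelCone.IsAugmentation 𝒮 aug) {U : Y.Opens}
    (hU : IsAffineOpen U) :
    RingHom.ker (aug.hom.app (op U)).hom = (HomogeneousIdeal.irrelevant (𝒮.deg U hU)).toIdeal := by
  classical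
  have hval : ∀ a : 𝒮.presheaf.obj (op U), (aug.hom.app (op U)).hom a =
      (aug.hom.app (op U)).hom (DirectSum.decompose (𝒮.deg U hU) a 0 : 𝒮.presheaf.obj (op U)) := by
    intro a
    induction a using DirectSum.Decomposition.inductionOn (𝒮.deg U hU) with
    | zero => simp
    | @homogeneous n a =>
      cases n with
      | zero => rw [DirectSum.decompose_of_mem_same _ a.2]
      | succ n =>
        rw [DirectSum.decompose_of_mem_ne _ a.2 (Nat.succ_ne_zero n), map_zero]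
        exact haug U hU n a a.2
    | add a b ha hb => simp [ha, hb]
  ext a
  rw [RingHom.mem_ker, hval]
  obtain ⟨r, hr⟩ := (h0 U hU).2 (DirectSum.decompose (𝒮.deg U hU) a 0)
  have hr' : (𝒮.str.app (op U)).hom r = (DirectSum.decompose (𝒮.deg U hU) a 0 : 𝒮.presheaf.obj (op U)) :=
    congrArg Subtype.val hr
  show _ ↔ (DirectSum.decompose (𝒮.deg U hU) a 0 : 𝒮.presheaf.obj (op U)) = 0
  rw [← hr', aug_str]
  refine ⟨fun h => by rw [h]; exact map_zero _, fun h => ?_⟩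
  rw [← aug_str (aug := aug) U r, h]
  exact map_zero _

theorem aug_surjective (U : Y.Opens) : Function.Surjective (aug.hom.app (op U)).hom :=
  fun r => ⟨_, aug_str U r⟩

theorem compl_vertex (h0 : RelCone.StrZeroBij 𝒮) (haug : RelCone.IsAugmentation 𝒮 aug)
    {ε : Y ⟶ 𝒮.toQCAlg.spec} (hε : RelCone.IsVertex 𝒮 aug ε) :
    ((RelCone.pointedCone 𝒮 : 𝒮.toQCAlg.spec.Opens) : Set 𝒮.toQCAlg.spec) = (Set.range ε.base)ᶜ := by
  ext x
  obtain ⟨U, hU, z, rfl⟩ := exists_chart 𝒮.toQCAlg x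
  show z ∈ 𝒮.toQCAlg.ι U hU ⁻¹ᵁ RelCone.pointedCone 𝒮 ↔ _
  rw [ι_preimage_pointedCone 𝒮 hU, mem_vertexCompl, ← ker_aug h0 haug hU, Set.mem_compl_iff, not_iff_not]
  have hrange := range_comap_of_surjective _ _ (aug_surjective (aug := aug) U)
  constructor
  · intro h
    obtain ⟨s, hs⟩ := hrange.ge (show z ∈ PrimeSpectrum.zeroLocus _ from h)
    refine ⟨hU.fromSpec s, ?_⟩
    exact ((congrArg (fun f => f s) (congrArg (fun g : Spec Γ(Y, U) ⟶ 𝒮.toQCAlg.spec => g.base) (hε.chart U hU)))).trans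
      (congrArg (fun w => 𝒮.toQCAlg.ι U hU w) hs)
  · rintro ⟨y, hy⟩
    have hy' : y ∈ U := by
      have h1 := preimage_π_ι 𝒮.toQCAlg hU z
      rw [← hy] at h1
      have h2 : 𝒮.toQCAlg.π (ε y) = y := by rw [← Scheme.Hom.comp_apply, hε.comp_π]; rfl
      exact h2 ▸ h1
    obtain ⟨s, rfl⟩ : y ∈ Set.range hU.fromSpec := by rw [hU.range_fromSpec]; exact hy'
    have h3 : Spec.map (aug.hom.app (op U)) s = z := by
      refine (𝒮.toQCAlg.ι U hU).isOpenEmbedding.injective ?_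
      exact ((congrArg (fun f => f s) (congrArg (fun g : Spec Γ(Y, U) ⟶ 𝒮.toQCAlg.spec => g.base) (hε.chart U hU)))).symm.trans hy
    exact hrange.le ⟨s, h3⟩

theorem isIso_unit_π (S : Scheme.{u}) : IsIso (RelSpec.QCAlg.unit S).π := by
  refine IsZariskiLocalAtTarget.of_iSup_eq_top (P := MorphismProperty.isomorphisms Scheme.{u})
    (fun U : S.affineOpens => U.1) (iSup_affineOpens_eq_top S) fun U => ?_
  let k := (RelSpec.QCAlg.unit S).spec.isoOfEq ((RelSpec.QCAlg.unit S).π_preimage U.1 U.2) ≪≫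
    ((RelSpec.QCAlg.unit S).ι U.1 U.2).isoOpensRange.symm
  have e : (RelSpec.QCAlg.unit S).π ∣_ U.1 = k.hom ≫ U.2.isoSpec.inv := by
    have hι : U.2.isoSpec.inv ≫ U.1.ι = U.2.fromSpec := IsAffineOpen.isoSpec_inv_ι U.2
    rw [← cancel_mono U.1.ι, morphismRestrict_ι]
    refine Eq.trans ?_ ((congrArg (k.hom ≫ ·) hι.symm).trans (Category.assoc _ _ _).symm)
    have h := (RelSpec.QCAlg.unit S).ι_π U.1 U.2
    have h2 : (RelSpec.QCAlg.unit S).ι U.1 U.2 ≫ (RelSpec.QCAlg.unit S).π = U.2.fromSpec :=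
      h.trans ((congrArg (· ≫ U.2.fromSpec) (Spec.map_id _)).trans (Category.id_comp _))
    have hk : k.hom ≫ (RelSpec.QCAlg.unit S).ι U.1 U.2 = ((RelSpec.QCAlg.unit S).π ⁻¹ᵁ U.1).ι := by
      simp [k, Scheme.Hom.isoOpensRange_inv_comp]
    rw [← hk, Category.assoc]
    exact congrArg (k.hom ≫ ·) h2
  show IsIso _
  rw [e]
  infer_instance

theorem existsUnique_vertex :
    ∃! ε : Y ⟶ 𝒮.toQCAlg.spec, RelCone.IsVertex 𝒮 aug ε := by
  haveI := isIso_unit_π Y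
  have hchart : ∀ (U : Y.Opens) (hU : IsAffineOpen U),
      hU.fromSpec ≫ inv (RelSpec.QCAlg.unit Y).π = (RelSpec.QCAlg.unit Y).ι U hU := by
    intro U hU
    rw [IsIso.comp_inv_eq]
    exact (((RelSpec.QCAlg.unit Y).ι_π U hU).trans ((congrArg (· ≫ hU.fromSpec) (Spec.map_id _)).trans (Category.id_comp _))).symm
  refine ⟨inv (RelSpec.QCAlg.unit Y).π ≫ RelSpec.QCAlg.specMap aug, ⟨?_, fun U hU => ?_⟩, fun ε hε => ?_⟩
  · rw [Category.assoc, RelSpec.QCAlg.specMap_π, IsIso.inv_hom_id]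
  · rw [reassoc_of% (hchart U hU)]
    exact RelSpec.QCAlg.ι_specMap U hU aug
  · refine ext_of_charts _ _ fun y => ?_
    obtain ⟨U, hU, hyU, -⟩ := exists_isAffineOpen_mem_and_subset (x := y) (U := ⊤) trivial
    refine ⟨_, hU.fromSpec, inferInstance, by rw [hU.range_fromSpec]; exact hyU, ?_⟩
    rw [hε.chart U hU, reassoc_of% (hchart U hU)]
    exact (RelSpec.QCAlg.ι_specMap U hU aug).symm

theorem isClosedImmersion_vertex {ε : Y ⟶ 𝒮.toQCAlg.spec} (hε : RelCone.IsVertex 𝒮 aug ε) :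
    IsClosedImmersion ε := by
  haveI : IsClosedImmersion (ε ≫ 𝒮.toQCAlg.π) := by rw [hε.comp_π]; infer_instance
  exact IsClosedImmersion.of_comp ε 𝒮.toQCAlg.π

section qMap

variable (𝒮)
variable {Y' : Scheme.{u}} {q : Y' ⟶ Y} (𝒮' : RelProj.QCGrAlg Y') {u : 𝒮.presheaf ⟶ q.base _* 𝒮'.presheaf}
  {φ : ∀ (U : Y.Opens) (hU : IsAffineOpen U) (U' : Y'.Opens) (hU' : IsAffineOpen U') (_ : U' ≤ q ⁻¹ᵁ U),
      𝒮.deg U hU →+*ᵍ 𝒮'.deg U' hU'}
  (hφ : ∀ (U : Y.Opens) (hU : IsAffineOpen U) (U' : Y'.Opens) (hU' : IsAffineOpen U') (hle : U' ≤ q ⁻¹ᵁ U),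
      (φ U hU U' hU' hle).toRingHom = (comp q 𝒮.toQCAlg 𝒮'.toQCAlg u U U' hle).hom)
  {Φ : 𝒮'.toQCAlg.spec ⟶ 𝒮.toQCAlg.spec}
  (hΦ : ∀ (U : Y.Opens) (hU : IsAffineOpen U) (U' : Y'.Opens) (hU' : IsAffineOpen U') (hle : U' ≤ q ⁻¹ᵁ U),
      𝒮'.toQCAlg.ι U' hU' ≫ Φ = Spec.map (comp q 𝒮.toQCAlg 𝒮'.toQCAlg u U U' hle) ≫ 𝒮.toQCAlg.ι U hU)

include hφ hΦ in
theorem ι_mem_preimage_pointedCone {U : Y.Opens} (hU : IsAffineOpen U) {U' : Y'.Opens} (hU' : IsAffineOpen U')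
    (hle : U' ≤ q ⁻¹ᵁ U) (z : Spec (𝒮'.presheaf.obj (op U'))) :
    𝒮'.toQCAlg.ι U' hU' z ∈ Φ ⁻¹ᵁ RelCone.pointedCone 𝒮 ↔
      ¬ (HomogeneousIdeal.irrelevant (𝒮.deg U hU)).toIdeal ≤ Ideal.comap (φ U hU U' hU' hle) z.asIdeal := by
  show z ∈ 𝒮'.toQCAlg.ι U' hU' ⁻¹ᵁ (Φ ⁻¹ᵁ RelCone.pointedCone 𝒮) ↔ _
  rw [← Scheme.Hom.comp_preimage, hΦ U hU U' hU' hle, Scheme.Hom.comp_preimage, ι_preimage_pointedCone 𝒮 hU]
  show ¬ _ ≤ Ideal.comap (comp q 𝒮.toQCAlg 𝒮'.toQCAlg u U U' hle).hom z.asIdeal ↔ _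
  rw [← hφ U hU U' hU' hle]
  rfl

theorem irrelevant_le_comap_of_le {A B σ τ : Type u} [CommRing A] [CommRing B] [SetLike σ A]
    [AddSubgroupClass σ A] [SetLike τ B] [AddSubgroupClass τ B] {𝒜 : ℕ → σ} {ℬ : ℕ → τ} [GradedRing 𝒜]
    [GradedRing ℬ] (ψ : 𝒜 →+*ᵍ ℬ) {P : Ideal B} (h : (HomogeneousIdeal.irrelevant ℬ).toIdeal ≤ P) :
    (HomogeneousIdeal.irrelevant 𝒜).toIdeal ≤ Ideal.comap ψ P :=
  (HomogeneousIdeal.toIdeal_irrelevant_le _).mpr fun _ hd _ hx =>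
    h (HomogeneousIdeal.mem_irrelevant_of_mem _ hd (ψ.map_mem hx))

include hφ hΦ in
theorem preimage_pointedCone_le : Φ ⁻¹ᵁ RelCone.pointedCone 𝒮 ≤ RelCone.pointedCone 𝒮' := by
  intro x hx
  obtain ⟨U, hU, U', hU', hle, z, rfl⟩ := exists_chart_pair q 𝒮'.toQCAlg x
  rw [ι_mem_preimage_pointedCone 𝒮 𝒮' hφ hΦ hU hU' hle] at hx
  show z ∈ 𝒮'.toQCAlg.ι U' hU' ⁻¹ᵁ RelCone.pointedCone 𝒮'
  rw [ι_preimage_pointedCone 𝒮' hU', mem_vertexCompl]
  exact fun h => hx (irrelevant_le_comap_of_le _ h)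

include hφ hΦ in
theorem domOpen_eq_top_iff :
    (∀ (U : Y.Opens) (hU : IsAffineOpen U) (U' : Y'.Opens) (hU' : IsAffineOpen U') (hle : U' ≤ q ⁻¹ᵁ U),
        RelCone.domOpen (φ U hU U' hU' hle) = ⊤) ↔
      Φ ⁻¹ᵁ RelCone.pointedCone 𝒮 = RelCone.pointedCone 𝒮' := by
  constructor
  · intro h
    refine le_antisymm (preimage_pointedCone_le 𝒮 𝒮' hφ hΦ) fun x hx => ?_
    obtain ⟨U, hU, U', hU', hle, z, rfl⟩ := exists_chart_pair q 𝒮'.toQCAlg x
    have hx' : z ∈ 𝒮'.toQCAlg.ι U' hU' ⁻¹ᵁ RelCone.pointedCone 𝒮' := hx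
    rw [ι_preimage_pointedCone 𝒮' hU', mem_vertexCompl] at hx'
    rw [ι_mem_preimage_pointedCone 𝒮 𝒮' hφ hΦ hU hU' hle]
    intro hc
    refine hx' ?_
    by_contra hirr
    have hcore : (z.asIdeal.homogeneousCore (𝒮'.deg U' hU')).toIdeal ≤ z.asIdeal :=
      Ideal.toIdeal_homogeneousCore_le _ _
    let P : Proj (𝒮'.deg U' hU') :=
      ⟨z.asIdeal.homogeneousCore _, z.isPrime.homogeneousCore, fun h' => hirr (le_trans h' hcore)⟩
    have hP : P ∈ RelCone.domOpen (φ U hU U' hU' hle) := by rw [h U hU U' hU' hle]; trivial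
    obtain ⟨f, hf, hfP⟩ := (RelCone.mem_domOpen _ P).mp hP
    refine hfP ?_
    classical
    rw [← DirectSum.sum_support_decompose (𝒮.deg U hU) f, map_sum]
    refine Ideal.sum_mem P.asHomogeneousIdeal.toIdeal fun n _ => ?_
    exact Ideal.mem_homogeneousCore_of_homogeneous_of_mem ⟨n, (φ U hU U' hU' hle).map_mem (SetLike.coe_mem _)⟩
      (hc ((HomogeneousIdeal.irrelevant (𝒮.deg U hU)).isHomogeneous n hf))
  · intro h U hU U' hU' hle
    refine top_le_iff.mp fun P _ => ?_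
    let z : Spec (𝒮'.presheaf.obj (op U')) := ⟨P.asHomogeneousIdeal.toIdeal, P.isPrime⟩
    have hz : z ∈ 𝒮'.toQCAlg.ι U' hU' ⁻¹ᵁ RelCone.pointedCone 𝒮' := by
      rw [ι_preimage_pointedCone 𝒮' hU', mem_vertexCompl]
      exact P.not_irrelevant_le
    rw [← h] at hz
    have hz2 := (ι_mem_preimage_pointedCone 𝒮 𝒮' hφ hΦ hU hU' hle z).mp hz
    obtain ⟨f, hf, hfz⟩ := SetLike.not_le_iff_exists.mp hz2
    exact (RelCone.mem_domOpen _ P).mpr ⟨f, hf, hfz⟩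

end qMap

end RelConeLib

end
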