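import Mathlib
import Groth.Agent.ConeRetrLib.Hat

/-!
# Charts of degree one, for arbitrary gradings by additive subgroups
-/

set_option autoImplicit false
universe u

open HomogeneousLocalization Polynomial

namespace RelConeLib.Gen

open ConeRetrLib (hatEquiv coeff_mem ev deHom)

variable {A σ₁ : Type u} [CommRing A] [SetLike σ₁ A] [AddSubgroupClass σ₁ A] {𝒜 : ℕ → σ₁} [GradedRing 𝒜]

theorem mk_mul_algebraMap_pow {S : Type u} [CommRing S] (s a : S) (n : ℕ) :
    Localization.mk a (⟨s ^ n, n, rfl⟩ : Submonoid.powers s) * algebraMap S (Localization.Away s) (s ^ n) =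
      algebraMap S (Localization.Away s) a := by
  rw [Localization.mk_eq_mk']
  exact IsLocalization.mk'_spec _ _ (⟨s ^ n, n, rfl⟩ : Submonoid.powers s)

section Hat

variable {B τ₁ : Type u} [CommRing B] [SetLike τ₁ B] [AddSubgroupClass τ₁ B] {ℬ : ℕ → τ₁} [GradedRing ℬ]
  [Algebra A B] (φ : 𝒜 →+*ᵍ ℬ) (hφ : ∀ a : A, φ a = algebraMap A B a)
  (z : B) (hz : z ∈ ℬ 1) (hhat : Function.Bijective (Polynomial.aeval (R := A) z))
  {f : A} (hf : f ∈ 𝒜 1)

/-- `A_(f)[X] → B_(φ f)`, `X ↦ z / φ f`. -/
noncomputable def hatChart : Polynomial (Away 𝒜 f) →+* Away ℬ (φ f) :=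
  Polynomial.eval₂RingHom (Away.map φ f)
    (Away.mk ℬ (φ.2 hf) 1 z (by rw [one_smul]; exact hz))

/-- `B → A_f[X]`. -/
noncomputable def hatTo : B →+* Polynomial (Localization.Away f) :=
  (Polynomial.mapRingHom (algebraMap A (Localization.Away f))).comp
    (hatEquiv z hhat).symm.toRingEquiv.toRingHom

theorem hatTo_z : hatTo (f := f) z hhat z = X := by
  have h : (hatEquiv z hhat).symm z = X := (AlgEquiv.symm_apply_eq _).mpr (by simp [hatEquiv])
  show Polynomial.map _ ((hatEquiv z hhat).symm z) = X
  rw [h, Polynomial.map_X]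

include hφ in
theorem hatTo_phi (a : A) : hatTo (f := f) z hhat (φ a) = C (algebraMap A (Localization.Away f) a) := by
  show Polynomial.map _ ((hatEquiv z hhat).symm (φ a)) = _
  rw [hφ, AlgEquiv.commutes, Polynomial.algebraMap_eq, Polynomial.map_C]

include hφ hhat in
/-- `B_(φ f) → A_f[X]`. -/
theorem hatChart_bijective : Function.Bijective (hatChart φ z hz hf) := by
  classical
  have hu : IsUnit (hatTo (f := f) z hhat (φ f)) := by
    rw [hatTo_phi φ hφ z hhat]
    exact (IsLocalization.Away.algebraMap_isUnit f).map C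
  let Ψ : Away ℬ (φ f) →+* Polynomial (Localization.Away f) :=
    (Localization.awayLift (hatTo (f := f) z hhat) (φ f) hu).comp
      (algebraMap (Away ℬ (φ f)) (Localization.Away (φ f)))
  have hΨ : ∀ (n : ℕ) (b : B) (hb : b ∈ ℬ (n • 1)),
      Ψ (Away.mk ℬ (φ.2 hf) n b hb) * hatTo (f := f) z hhat (φ f) ^ n = hatTo (f := f) z hhat b := by
    intro n b hb
    have h2 := congrArg (Localization.awayLift (hatTo (f := f) z hhat) (φ f) hu) (mk_mul_algebraMap_pow (φ f) b n)
    rw [map_mul] at h2
    simp only [Localization.awayLift, IsLocalization.Away.lift_eq, map_pow] at h2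
    exact h2
  let g : Polynomial (Localization.Away f) := C (IsLocalization.Away.invSelf f) * X
  have hcomp : ∀ P : Polynomial (Away 𝒜 f),
      Ψ (hatChart φ z hz hf P) = (P.map (algebraMap (Away 𝒜 f) (Localization.Away f))).comp g := by
    intro P
    induction P using Polynomial.induction_on' with
    | add p q hp hq => rw [map_add, map_add, hp, hq, Polynomial.map_add, Polynomial.add_comp]
    | monomial k a =>
      rw [hatChart, Polynomial.coe_eval₂RingHom, Polynomial.eval₂_monomial, map_mul, map_pow,
        Polynomial.map_monomial, Polynomial.monomial_comp]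
      congr 1
      · obtain ⟨n, x, hx, rfl⟩ := a.mk_surjective _ hf
        refine (hu.pow n).mul_right_cancel ?_
        rw [Away.map_mk, hΨ, hatTo_phi φ hφ z hhat, hatTo_phi φ hφ z hhat, ← map_pow, ← map_mul]
        congr 1
        rw [HomogeneousLocalization.algebraMap_apply, Away.val_mk, ← map_pow, mk_mul_algebraMap_pow]
      · congr 1
        refine hu.mul_right_cancel ?_
        have h1 := hΨ 1 z (by rw [one_smul]; exact hz)
        rw [pow_one] at h1
        rw [h1, hatTo_z, hatTo_phi φ hφ z hhat]
        simp only [g]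
        rw [mul_assoc, mul_comm X, ← mul_assoc, ← map_mul, mul_comm (IsLocalization.Away.invSelf f),
          IsLocalization.Away.mul_invSelf, map_one, one_mul]
  constructor
  · rw [injective_iff_map_eq_zero]
    intro P hP
    have h1 : (P.map (algebraMap (Away 𝒜 f) (Localization.Away f))).comp g = 0 := by
      rw [← hcomp, hP, map_zero]
    have h2 : g.comp (C (algebraMap A (Localization.Away f) f) * X) = X := by
      simp only [g]
      rw [Polynomial.mul_comp, Polynomial.C_comp, Polynomial.X_comp, ← mul_assoc, ← map_mul,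
        mul_comm (IsLocalization.Away.invSelf f), IsLocalization.Away.mul_invSelf, map_one, one_mul]
    have h3 := congrArg (fun q : Polynomial (Localization.Away f) =>
      q.comp (C (algebraMap A (Localization.Away f) f) * X)) h1
    simp only [Polynomial.comp_assoc, h2, Polynomial.comp_X, Polynomial.zero_comp] at h3
    exact Polynomial.map_injective _ (val_injective _) (h3.trans (Polynomial.map_zero _).symm)
  · intro x
    obtain ⟨n, b, hb, rfl⟩ := x.mk_surjective _ (φ.2 hf)
    have hbn : b ∈ ℬ n := by simpa using hb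
    let P := (hatEquiv z hhat).symm b
    have hmem := fun i => coeff_mem φ hφ z hz hhat hbn i
    let Q : Polynomial (Away 𝒜 f) := ∑ i ∈ Finset.range (n + 1),
      monomial i (Away.mk 𝒜 hf (n - i) (P.coeff i) (by rw [smul_eq_mul, mul_one]; exact (hmem i).1))
    refine ⟨Q, val_injective _ ?_⟩
    have hb' : b = ∑ i ∈ Finset.range (n + 1), φ (P.coeff i) * z ^ i := by
      have hdeg : P.natDegree < n + 1 := by
        rw [Nat.lt_succ_iff, Polynomial.natDegree_le_iff_coeff_eq_zero]
        exact fun i hi => (hmem i).2 hi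
      conv_lhs => rw [← (hatEquiv z hhat).apply_symm_apply b]
      show Polynomial.aeval z P = _
      rw [Polynomial.aeval_eq_sum_range' hdeg]
      exact Finset.sum_congr rfl fun i _ => by rw [Algebra.smul_def, hφ]
    refine (IsLocalization.Away.algebraMap_isUnit (S := Localization.Away (φ f)) (φ f)).pow n |>.mul_right_cancel ?_
    rw [← map_pow (algebraMap B (Localization.Away (φ f))), Away.val_mk]
    refine Eq.trans ?_ (mk_mul_algebraMap_pow _ b n).symm
    rw [← HomogeneousLocalization.algebraMap_apply, map_sum, map_sum, Finset.sum_mul]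
    refine Eq.trans ?_ (congrArg (algebraMap B (Localization.Away (φ f))) hb'.symm)
    rw [map_sum]
    refine Finset.sum_congr rfl fun i hi => ?_
    have hin : i ≤ n := Nat.lt_succ_iff.mp (Finset.mem_range.mp hi)
    have hsplit : φ f ^ n = φ f ^ (n - i) * (φ f ^ 1) ^ i := by rw [pow_one, ← pow_add, Nat.sub_add_cancel hin]
    rw [hatChart, Polynomial.coe_eval₂RingHom, Polynomial.eval₂_monomial, Away.map_mk, map_mul, map_pow,
      HomogeneousLocalization.algebraMap_apply, HomogeneousLocalization.algebraMap_apply, Away.val_mk,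
      Away.val_mk, hsplit, map_mul (algebraMap B (Localization.Away (φ f))),
      map_pow (algebraMap B (Localization.Away (φ f))) (φ f ^ 1), mul_mul_mul_comm, ← mul_pow,
      mk_mul_algebraMap_pow, mk_mul_algebraMap_pow, map_mul, map_pow]

end Hat

section Laurent

variable {f : A} (hf : f ∈ 𝒜 1)

/-- `A_(f)[T, T⁻¹] → A_f`, `T ↦ f`. -/
noncomputable def coneChart : LaurentPolynomial (Away 𝒜 f) →+* Localization.Away f :=
  LaurentPolynomial.eval₂ (algebraMap (Away 𝒜 f) (Localization.Away f))
    (IsLocalization.Away.algebraMap_isUnit (S := Localization.Away f) f).unit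

variable (𝒜) in
/-- `A → A[X]`, `a ↦ a Xⁿ` in degree `n`. -/
noncomputable def degHom : A →+* Polynomial A :=
  (DirectSum.toSemiring (fun i => (Polynomial.monomial i).toAddMonoidHom.comp (AddSubmonoidClass.subtype (𝒜 i)))
    (by simp [SetLike.coe_gOne])
    (fun {i j} ai aj => by simp [SetLike.coe_gMul, Polynomial.monomial_mul_monomial])).comp
    (DirectSum.decomposeRingEquiv 𝒜).toRingHom

theorem degHom_of_mem {n : ℕ} {a : A} (ha : a ∈ 𝒜 n) : degHom 𝒜 a = monomial n a := by
  rw [degHom, RingHom.comp_apply, RingEquiv.toRingHom_eq_coe, RingHom.coe_coe,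
    show DirectSum.decomposeRingEquiv 𝒜 a = DirectSum.decompose 𝒜 a from rfl]
  rw [DirectSum.decompose_of_mem 𝒜 ha]
  erw [DirectSum.toSemiring_of]
  rfl

include hf in
theorem coneChart_bijective : Function.Bijective (coneChart (𝒜 := 𝒜) (f := f)) := by
  classical
  let L := Localization.Away f
  let σ₀ : A →+* LaurentPolynomial L :=
    Polynomial.toLaurent.comp ((Polynomial.mapRingHom (algebraMap A L)).comp (degHom 𝒜))
  have hσ₀ : ∀ (n : ℕ) (a : A), a ∈ 𝒜 n → σ₀ a = LaurentPolynomial.C (algebraMap A L a) * LaurentPolynomial.T n := by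
    intro n a ha
    show Polynomial.toLaurent ((degHom 𝒜 a).map (algebraMap A L)) = _
    rw [degHom_of_mem ha, Polynomial.map_monomial, ← Polynomial.C_mul_X_pow_eq_monomial,
      Polynomial.toLaurent_C_mul_X_pow]
  have hu : IsUnit (σ₀ f) := by
    rw [hσ₀ 1 f hf]
    exact ((IsLocalization.Away.algebraMap_isUnit f).map LaurentPolynomial.C).mul (LaurentPolynomial.isUnit_T _)
  let σ : L →+* LaurentPolynomial L := Localization.awayLift σ₀ f hu
  have hσ : ∀ a, σ (algebraMap A L a) = σ₀ a := fun a => IsLocalization.Away.lift_eq f hu a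
  have hC : ∀ a : Away 𝒜 f, σ (algebraMap (Away 𝒜 f) L a) = LaurentPolynomial.C (algebraMap (Away 𝒜 f) L a) := by
    intro a
    obtain ⟨n, x, hx, rfl⟩ := a.mk_surjective _ hf
    have hxn : x ∈ 𝒜 n := by simpa using hx
    have hfn : f ^ n ∈ 𝒜 n := by simpa using SetLike.pow_mem_graded n hf
    refine (hu.pow n).mul_right_cancel ?_
    rw [← map_pow, ← hσ, ← map_mul, HomogeneousLocalization.algebraMap_apply, Away.val_mk,
      mk_mul_algebraMap_pow, hσ, hσ, hσ₀ n x hxn, hσ₀ n _ hfn, ← mul_assoc, ← map_mul, mk_mul_algebraMap_pow]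
  have hpoly : ∀ q : Polynomial (Away 𝒜 f), σ (coneChart (𝒜 := 𝒜) (f := f) (Polynomial.toLaurent q)) =
      Polynomial.toLaurent ((q.map (algebraMap (Away 𝒜 f) L)).comp (C (algebraMap A L f) * X)) := by
    intro q
    induction q using Polynomial.induction_on' with
    | add p q hp hq =>
      rw [map_add, map_add, map_add, hp, hq, Polynomial.map_add, Polynomial.add_comp, map_add]
    | monomial k a =>
      rw [coneChart, LaurentPolynomial.eval₂_toLaurent, Polynomial.eval₂_monomial, map_mul, map_pow, hC,
        IsUnit.unit_spec, hσ, hσ₀ 1 f hf, Polynomial.map_monomial, Polynomial.monomial_comp, map_mul,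
        map_pow, map_mul, Polynomial.toLaurent_C, Polynomial.toLaurent_C, Polynomial.toLaurent_X]
      rfl
  constructor
  · rw [injective_iff_map_eq_zero]
    intro p hp
    obtain ⟨n, q, hq⟩ := LaurentPolynomial.exists_T_pow p
    have h1 : coneChart (𝒜 := 𝒜) (f := f) (Polynomial.toLaurent q) = 0 := by rw [hq, map_mul, hp, zero_mul]
    have h2 := hpoly q
    rw [h1, map_zero, eq_comm, Polynomial.toLaurent_eq_zero] at h2
    have hg : (C (algebraMap A L f) * X).comp (C (IsLocalization.Away.invSelf f) * X) = (X : Polynomial L) := by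
      rw [Polynomial.mul_comp, Polynomial.C_comp, Polynomial.X_comp, ← mul_assoc, ← map_mul,
        IsLocalization.Away.mul_invSelf, map_one, one_mul]
    have h3 := congrArg (fun r : Polynomial L => r.comp (C (IsLocalization.Away.invSelf f) * X)) h2
    simp only [Polynomial.comp_assoc, hg, Polynomial.comp_X, Polynomial.zero_comp] at h3
    have hq0 : q = 0 := Polynomial.map_injective _ (val_injective _) (h3.trans (Polynomial.map_zero _).symm)
    rw [hq0, map_zero] at hq
    have h4 := congrArg (· * LaurentPolynomial.T (-(n : ℤ))) hq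
    simpa [LaurentPolynomial.mul_T_assoc] using h4.symm
  · intro x
    obtain ⟨k, a, rfl⟩ : ∃ (k : ℕ) (a : A), Localization.mk a (⟨f ^ k, k, rfl⟩ : Submonoid.powers f) = x := by
      induction x using Localization.induction_on with
      | H y =>
        obtain ⟨a, s, k, hk⟩ := y
        subst hk
        exact ⟨k, a, rfl⟩
    refine ⟨(∑ n ∈ (DirectSum.decompose 𝒜 a).support, LaurentPolynomial.C
      (Away.mk 𝒜 hf n (DirectSum.decompose 𝒜 a n : A) (by rw [smul_eq_mul, mul_one]; exact SetLike.coe_mem _)) *
        LaurentPolynomial.T n) * LaurentPolynomial.T (-(k : ℤ)), ?_⟩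
    refine (IsLocalization.Away.algebraMap_isUnit (S := L) f).pow k |>.mul_right_cancel ?_
    rw [← map_pow, mk_mul_algebraMap_pow, map_mul, map_sum]
    unfold coneChart
    rw [LaurentPolynomial.eval₂_T_neg_n,
      mul_assoc, map_pow, ← mul_pow]
    erw [IsUnit.val_inv_mul]
    rw [one_pow, mul_one]
    refine Eq.trans ?_ (congrArg (algebraMap A L) (DirectSum.sum_support_decompose 𝒜 a))
    rw [map_sum]
    refine Finset.sum_congr rfl fun n _ => ?_
    rw [LaurentPolynomial.eval₂_C_mul_T_n, IsUnit.unit_spec, ← map_pow,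
      HomogeneousLocalization.algebraMap_apply, Away.val_mk, mk_mul_algebraMap_pow]

end Laurent

end RelConeLib.Gen
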