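import Groth.Agent.RelConeLib.Dom

/-!
# The affine cone inside the projective cone, over an affine base
-/

set_option autoImplicit false
universe u

open CategoryTheory AlgebraicGeometry HomogeneousLocalization TopologicalSpace
open ConeRetrLib (Idx)
open scoped HomogeneousIdeal

noncomputable section

namespace RelConeLib

variable {A σ : Type u} [CommRing A] [SetLike σ A] [AddSubgroupClass σ A] {𝒜 : ℕ → σ} [GradedRing 𝒜]
  {B τ : Type u} [CommRing B] [SetLike τ B] [AddSubgroupClass τ B] {ℬ : ℕ → τ} [GradedRing ℬ]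
  (ψ : 𝒜 →+*ᵍ ℬ) [Algebra A B] (hψ : ∀ a : A, ψ a = algebraMap A B a) (z : B) (hz : z ∈ ℬ 1)
  (hhat : Function.Bijective (Polynomial.aeval (R := A) z))

include hψ hz in
/-- A homomorphism with `ψ a / zⁿ ↦ a` is the dehomogenization. -/
theorem eq_deHom (k : Away ℬ z →+* A)
    (hk : ∀ (q : Away ℬ z) (n : ℕ) (a : A), a ∈ 𝒜 n →
      q.val = Localization.mk (ψ a) ⟨z ^ n, pow_mem (Submonoid.mem_powers z) n⟩ → k q = a) :
    k = ConeRetrLib.deHom (ℬ := ℬ) z hhat := by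
  classical
  refine RingHom.ext fun q => ?_
  let a := ConeRetrLib.deHom (ℬ := ℬ) z hhat q
  let s : ℕ → Away ℬ z := fun n => Away.mk ℬ hz n (ψ (DirectSum.decompose 𝒜 a n : A))
    (by rw [smul_eq_mul, mul_one]; exact ψ.2 (SetLike.coe_mem _))
  have hs : q = ∑ n ∈ (DirectSum.decompose 𝒜 a).support, s n := by
    refine (ConeRetrLib.deHom_bijective ψ hψ z hz hhat).1 ?_
    rw [map_sum]
    refine (DirectSum.sum_support_decompose 𝒜 a).symm.trans (Finset.sum_congr rfl fun n _ => ?_)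
    exact ((ConeRetrLib.deHom_mk z hz hhat n _ _).trans (ConeRetrLib.ev_phi ψ hψ z hhat _)).symm
  conv_lhs => rw [hs, map_sum]
  refine (Finset.sum_congr rfl fun n _ => ?_).trans (DirectSum.sum_support_decompose 𝒜 a)
  exact hk _ n _ (SetLike.coe_mem _) (Away.val_mk _ _ _ _ _)

include hψ hz hhat in
theorem notMem_of_notMem_domOpen {P : Proj ℬ} (hP : P ∉ RelCone.domOpen ψ) : P ∈ Proj.basicOpen ℬ z := by
  classical
  rw [Proj.mem_basicOpen]
  intro hzP
  refine P.not_irrelevant_le ((HomogeneousIdeal.toIdeal_irrelevant_le _).mpr fun n hn b hb => ?_)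
  let p := (ConeRetrLib.hatEquiv z hhat).symm b
  have hb' : b = p.sum fun i a => ψ a * z ^ i := by
    conv_lhs => rw [← (ConeRetrLib.hatEquiv z hhat).apply_symm_apply b]
    show Polynomial.aeval z p = _
    rw [Polynomial.aeval_def, Polynomial.eval₂_eq_sum]
    exact Finset.sum_congr rfl fun i _ => by beta_reduce; rw [hψ]
  rw [hb']
  refine Ideal.sum_mem P.asHomogeneousIdeal.toIdeal fun i _ => ?_
  beta_reduce
  rcases Nat.eq_zero_or_pos i with rfl | hi
  · refine Ideal.mul_mem_right _ _ ?_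
    by_contra h
    have hm : p.coeff 0 ∈ 𝒜 n := by simpa using (ConeRetrLib.coeff_mem ψ hψ z hz hhat hb 0).1
    exact hP ((RelCone.mem_domOpen ψ P).mpr ⟨_, HomogeneousIdeal.mem_irrelevant_of_mem 𝒜 hn hm, h⟩)
  · obtain ⟨m, rfl⟩ : ∃ m, i = m + 1 := ⟨i - 1, by omega⟩
    rw [pow_succ]
    exact Ideal.mul_mem_left _ _ (Ideal.mul_mem_left _ _ hzP)

theorem isAffineHom_coneMap : IsAffineHom (coneMap (ℬ := ℬ) z hz hhat) := by
  refine ConeRetrLib.isAffineHom_of_cover _ (fun i : Idx ℬ => Proj.basicOpen ℬ i.el)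
    (fun i => Proj.isAffineOpen_basicOpen ℬ i.el i.mem i.pos) ConeRetrLib.exists_mem_basicOpen fun i => ?_
  rw [coneMap, Scheme.Hom.comp_preimage]
  erw [Proj.awayι_preimage_basicOpen ℬ hz one_pos i.mem i.pos]
  exact (IsAffineOpen.Spec_basicOpen _).preimage _

include ψ hψ in
theorem coneMap_ker : (coneMap (ℬ := ℬ) z hz hhat).ker = (Proj.basicOpen ℬ z).ι.ker := by
  haveI := isIso_deHom ψ hψ z hz hhat
  rw [coneMap, Scheme.Hom.ker_comp_of_isIso, Proj.awayι, Scheme.Hom.ker_comp_of_isIso]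

section Lift

variable (W : (Spec (CommRingCat.of A)).Opens)
  (hW : ∀ w, w ∈ W ↔ ¬ (HomogeneousIdeal.irrelevant 𝒜).toIdeal ≤ w.asIdeal)

/-- The pointed affine cone inside the pointed projective cone. -/
def coneLift : (W : Scheme.{u}) ⟶ (RelCone.domOpen ψ : Scheme.{u}) :=
  IsOpenImmersion.lift (RelCone.domOpen ψ).ι (W.ι ≫ coneMap (ℬ := ℬ) z hz hhat) (by
    rw [Scheme.Opens.range_ι]
    rintro _ ⟨w, rfl⟩
    exact (coneMap_mem_domOpen ψ hψ z hz hhat w.1).mpr ((hW w.1).mp w.2))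

theorem coneLift_ι : coneLift ψ hψ z hz hhat W hW ≫ (RelCone.domOpen ψ).ι = W.ι ≫ coneMap (ℬ := ℬ) z hz hhat :=
  IsOpenImmersion.lift_fac _ _ _

theorem coneLift_preimage {e : ℕ} {g : A} (hg : g ∈ 𝒜 e) (he : 0 < e) :
    (coneLift ψ hψ z hz hhat W hW ≫ dMap ψ) ⁻¹ᵁ Proj.basicOpen 𝒜 g =
      W.ι ⁻¹ᵁ (PrimeSpectrum.basicOpen g : (Spec (CommRingCat.of A)).Opens) := by
  rw [Scheme.Hom.comp_preimage, dMap_preimage ψ hg he, ← Scheme.Hom.comp_preimage, coneLift_ι,
    Scheme.Hom.comp_preimage, coneMap_preimage_basicOpen ψ hψ z hz hhat hg he]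

theorem surjective_coneLift : Surjective (coneLift ψ hψ z hz hhat W hW ≫ dMap ψ) := by
  refine ⟨fun q => ⟨⟨⟨q.asHomogeneousIdeal.toIdeal, q.isPrime⟩, (hW _).mpr q.not_irrelevant_le⟩, ?_⟩⟩
  refine proj_ext fun d f hd hf => ?_
  have h := coneLift_preimage ψ hψ z hz hhat W hW hf hd
  refine not_iff_not.mp ?_
  exact Iff.of_eq (congrArg (fun U : (W : Scheme.{u}).Opens =>
    (⟨⟨q.asHomogeneousIdeal.toIdeal, q.isPrime⟩, (hW _).mpr q.not_irrelevant_le⟩ : (W : Scheme.{u})) ∈ U) h)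

theorem isAffineHom_coneLift : IsAffineHom (coneLift ψ hψ z hz hhat W hW ≫ dMap ψ) := by
  refine ConeRetrLib.isAffineHom_of_cover _ (fun i : Idx 𝒜 => Proj.basicOpen 𝒜 i.el)
    (fun i => Proj.isAffineOpen_basicOpen 𝒜 i.el i.mem i.pos) ConeRetrLib.exists_mem_basicOpen fun i => ?_
  rw [coneLift_preimage ψ hψ z hz hhat W hW i.mem i.pos]
  refine (IsAffineOpen.Spec_basicOpen (R := CommRingCat.of A) i.el).preimage_of_isOpenImmersion W.ι ?_
  rw [Scheme.Opens.opensRange_ι]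
  intro w hw
  exact (hW w).mpr fun h => hw (h i.mem_irrelevant)

end Lift

end RelConeLib

end
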