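import Groth.Agent.RelConeLib.Retract
import Groth.Agent.RelConeLib.DomCone
import Groth.Agent.RelConeLib.Cone
import Groth.Agent.MiscFlat6.RelProjEasy2

/-!
# The affine cone inside the projective cone over a general base
-/

set_option autoImplicit false
universe u

open CategoryTheory CategoryTheory.Limits AlgebraicGeometry TopologicalSpace Opposite HomogeneousLocalization
open ConeRetrLib (Idx)
open scoped HomogeneousIdeal

noncomputable section

namespace RelConeLib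

variable {Y PC P : Scheme.{u}} {𝒮 𝒮h : RelProj.QCGrAlg Y} {ι : 𝒮.toQCAlg ⟶ 𝒮h.toQCAlg}
  {z : 𝒮h.presheaf.obj (op ⊤)} (hz : RelCone.IsPolyOver 𝒮 𝒮h ι z) {pC : PC ⟶ Y}
  {chartC : ∀ (U : Y.Opens) (hU : IsAffineOpen U), (((pC ⁻¹ᵁ U : PC.Opens) : Scheme.{u}) ≅ Proj (𝒮h.deg U hU))}
  (hPC : RelProj.IsRelProj 𝒮h pC chartC)

/-- The algebra structure given by `ι` over an open. -/
abbrev algι (ι : 𝒮.toQCAlg ⟶ 𝒮h.toQCAlg) (U : Y.Opens) :
    Algebra (𝒮.presheaf.obj (op U)) (𝒮h.presheaf.obj (op U)) :=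
  (ι.hom.app (op U)).hom.toAlgebra

include hz in
theorem hat_bij (U : Y.Opens) (hU : IsAffineOpen U) :
    letI := algι ι U
    Function.Bijective (Polynomial.aeval (R := 𝒮.presheaf.obj (op U)) (RelCone.restrictTop 𝒮h z U)) :=
  hz.bij U hU

theorem ev_eq (U : Y.Opens) (hU : IsAffineOpen U) :
    letI := algι ι U
    ConeRetrLib.ev (RelCone.restrictTop 𝒮h z U) (hat_bij hz U hU) = hz.evalOne U hU := by
  letI := algι ι U
  refine RingHom.ext fun x => ?_
  obtain ⟨p, rfl⟩ := (hz.polyEquiv U hU).surjective x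
  have h1 : (ConeRetrLib.hatEquiv (RelCone.restrictTop 𝒮h z U) (hat_bij hz U hU)).symm (hz.polyEquiv U hU p) = p :=
    (ConeRetrLib.hatEquiv (RelCone.restrictTop 𝒮h z U) (hat_bij hz U hU)).symm_apply_apply p
  show Polynomial.aeval (1 : 𝒮.presheaf.obj (op U))
    ((ConeRetrLib.hatEquiv (RelCone.restrictTop 𝒮h z U) (hat_bij hz U hU)).symm (hz.polyEquiv U hU p)) = _
  rw [h1, RelCone.IsPolyOver.evalOne, RingHom.comp_apply, RingEquiv.toRingHom_eq_coe, RingEquiv.coe_toRingHom,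
    RingEquiv.symm_apply_apply]
  simp [Polynomial.aeval_def]

/-- `Spec 𝒮(U) ⟶ Proj 𝒮h(U)`. -/
def uConeMap (U : Y.Opens) (hU : IsAffineOpen U) :
    Spec (𝒮.presheaf.obj (op U)) ⟶ Proj (𝒮h.deg U hU) :=
  letI := algι ι U
  coneMap (RelCone.restrictTop 𝒮h z U) (hz.deg_z U hU) (hat_bij hz U hU)

theorem awayZToBase_eq (U : Y.Opens) (hU : IsAffineOpen U) :
    letI := algι ι U
    hz.awayZToBase U hU = ConeRetrLib.deHom (ℬ := 𝒮h.deg U hU) (RelCone.restrictTop 𝒮h z U) (hat_bij hz U hU) := by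
  letI := algι ι U
  refine RingHom.ext fun q => ?_
  obtain ⟨n, b, hb, rfl⟩ := q.mk_surjective _ (hz.deg_z U hU)
  rw [ConeRetrLib.deHom_mk _ (hz.deg_z U hU), hz.awayZToBase_of_val U hU _ b n (Away.val_mk _ _ _ _ _), ev_eq hz U hU]

theorem uConeMap_eq (U : Y.Opens) (hU : IsAffineOpen U) :
    uConeMap hz U hU = Spec.map (CommRingCat.ofHom (hz.awayZToBase U hU)) ≫
      Proj.awayι (𝒮h.deg U hU) (RelCone.restrictTop 𝒮h z U) (hz.deg_z U hU) one_pos := by
  rw [awayZToBase_eq hz U hU]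
  rfl

theorem isConeImm_iff (i : 𝒮.toQCAlg.spec ⟶ PC) :
    RelCone.IsConeImm 𝒮 hz pC chartC i ↔ ∀ (U : Y.Opens) (hU : IsAffineOpen U),
      𝒮.toQCAlg.ι U hU ≫ i = uConeMap hz U hU ≫ RelProj.emb pC chartC U hU := by
  refine forall₂_congr fun U hU => ?_
  rw [uConeMap_eq, Category.assoc]

theorem restrictTop_res (U : Y.Opens) (hU : IsAffineOpen U) {V : Y.Opens} (hV : IsAffineOpen V) (h : V ≤ U) :
    𝒮h.res hU hV h (RelCone.restrictTop 𝒮h z U) = RelCone.restrictTop 𝒮h z V := by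
  show ((𝒮h.presheaf.map (homOfLE le_top).op) ≫ (𝒮h.presheaf.map (homOfLE h).op)).hom z = _
  rw [← Functor.map_comp, ← op_comp, homOfLE_comp]

theorem res_evalOne (U : Y.Opens) (hU : IsAffineOpen U) {V : Y.Opens} (hV : IsAffineOpen V) (h : V ≤ U)
    (b : 𝒮h.presheaf.obj (op U)) :
    𝒮.res hU hV h (hz.evalOne U hU b) = hz.evalOne V hV (𝒮h.res hU hV h b) := by
  obtain ⟨p, rfl⟩ := (hz.polyEquiv U hU).surjective b
  induction p using Polynomial.induction_on' with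
  | add p q hp hq => simp only [map_add, hp, hq]
  | monomial n a =>
    rw [hz.polyEquiv_apply, Polynomial.eval₂_monomial, map_mul, map_pow, hz.evalOne_ι U hU, hz.evalOne_z U hU,
      one_pow, mul_one, map_mul, map_pow, restrictTop_res U hU hV h, map_mul, map_pow, hz.evalOne_z V hV, one_pow,
      mul_one]
    exact (hz.evalOne_ι V hV _).symm.trans (congrArg _ (res_gradedHomAt hz.graded hU hV h a).symm)

include hPC in
theorem uConeMap_res (U : Y.Opens) (hU : IsAffineOpen U) (r : Γ(Y, U)) :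
    Spec.map (𝒮.presheaf.map (homOfLE (Y.basicOpen_le r)).op) ≫ uConeMap hz U hU ≫ RelProj.emb pC chartC U hU =
      uConeMap hz _ (hU.basicOpen r) ≫ RelProj.emb pC chartC _ (hU.basicOpen r) := by
  let W := Y.basicOpen r
  let hW : IsAffineOpen W := hU.basicOpen r
  have key : ∀ (e : 𝒮h.presheaf.obj (op W)) (he : e ∈ 𝒮h.deg W hW 1)
      (hee : 𝒮h.res hU hW (Y.basicOpen_le r) (RelCone.restrictTop 𝒮h z U) = e),
      ∃ k : Away (𝒮h.deg U hU) (RelCone.restrictTop 𝒮h z U) →+* Away (𝒮h.deg W hW) e,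
        (∀ n a ha, k (Away.mk _ (hz.deg_z U hU) n a ha) =
          Away.mk _ he n (𝒮h.res hU hW (Y.basicOpen_le r) a) ((𝒮h.res hU hW (Y.basicOpen_le r)).2 ha)) ∧
        Proj.awayι (𝒮h.deg W hW) e he one_pos ≫ Proj.map (𝒮h.res hU hW (Y.basicOpen_le r)) (𝒮h.irrelevant_le_map U hU r) =
          Spec.map (CommRingCat.ofHom k) ≫ Proj.awayι (𝒮h.deg U hU) _ (hz.deg_z U hU) one_pos := by
    intro e he hee
    subst hee
    exact ⟨Away.map _ _, fun n a ha => Away.map_mk .., Proj.awayι_comp_map _ _ one_pos _ _⟩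
  obtain ⟨k, hk, hk'⟩ := key _ (hz.deg_z W hW) (restrictTop_res U hU hW (Y.basicOpen_le r))
  have hEq : CommRingCat.ofHom k ≫ CommRingCat.ofHom (hz.awayZToBase W hW) =
      CommRingCat.ofHom (hz.awayZToBase U hU) ≫ 𝒮.presheaf.map (homOfLE (Y.basicOpen_le r)).op := by
    refine CommRingCat.hom_ext (RingHom.ext fun q => ?_)
    obtain ⟨n, b, hb, rfl⟩ := q.mk_surjective _ (hz.deg_z U hU)
    show hz.awayZToBase W hW (k _) = 𝒮.res hU hW (Y.basicOpen_le r) (hz.awayZToBase U hU _)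
    rw [hk, hz.awayZToBase_of_val W hW _ _ n (Away.val_mk _ _ _ _ _),
      hz.awayZToBase_of_val U hU _ b n (Away.val_mk _ _ _ _ _), res_evalOne hz U hU hW]
  rw [uConeMap_eq, uConeMap_eq, ← RelProj.map_res_emb hPC U hU r]
  simp only [Category.assoc]
  rw [← Spec.map_comp_assoc, ← hEq, Spec.map_comp_assoc]
  exact congrArg (Spec.map (CommRingCat.ofHom (hz.awayZToBase W hW)) ≫ ·)
    (((Category.assoc _ _ _).symm.trans (congrArg (· ≫ RelProj.emb pC chartC U hU) hk'.symm)).trans (Category.assoc _ _ _))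

include hPC in
theorem existsUnique_coneImm : ∃! i : 𝒮.toQCAlg.spec ⟶ PC, RelCone.IsConeImm 𝒮 hz pC chartC i := by
  obtain ⟨i, hi, hu⟩ := existsUnique_glue_local (fun U : Y.affineOpens => 𝒮.toQCAlg.ι U.1 U.2)
    (fun U => uConeMap hz U.1 U.2 ≫ RelProj.emb pC chartC U.1 U.2)
    (fun x => by
      obtain ⟨U, hU, z, hz⟩ := exists_chart 𝒮.toQCAlg x
      exact ⟨⟨U, hU⟩, z, hz⟩)
    (fun U V x hx hx' => by
      have hxU : 𝒮.toQCAlg.π x ∈ U.1 := by rw [← 𝒮.toQCAlg.π_preimage U.1 U.2] at hx; exact hx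
      have hxV : 𝒮.toQCAlg.π x ∈ V.1 := by rw [← 𝒮.toQCAlg.π_preimage V.1 V.2] at hx'; exact hx'
      obtain ⟨r, r', e, hr⟩ := exists_basicOpen_le_affine_inter U.2 V.2 _ ⟨hxU, hxV⟩
      have key : ∀ W : Y.affineOpens, W.1 = Y.basicOpen r' →
          ∃ l : Spec (𝒮.presheaf.obj (op W.1)) ⟶ Spec (𝒮.presheaf.obj (op V.1)),
            l ≫ 𝒮.toQCAlg.ι V.1 V.2 = 𝒮.toQCAlg.ι W.1 W.2 ∧
              l ≫ uConeMap hz V.1 V.2 ≫ RelProj.emb pC chartC V.1 V.2 =
                uConeMap hz W.1 W.2 ≫ RelProj.emb pC chartC W.1 W.2 := by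
        rintro ⟨W, hW⟩ rfl
        exact ⟨Spec.map (𝒮.presheaf.map (homOfLE (Y.basicOpen_le r')).op),
          ι_res_le 𝒮.toQCAlg V.2 hW _, uConeMap_res hz hPC V.1 V.2 r'⟩
      obtain ⟨l, hl, hlt⟩ := key ⟨_, U.2.basicOpen r⟩ e
      refine ⟨⟨_, U.2.basicOpen r⟩, Spec.map (𝒮.presheaf.map (homOfLE (Y.basicOpen_le r)).op), l, ?_,
        ι_res_le 𝒮.toQCAlg U.2 (U.2.basicOpen r) _, hl, uConeMap_res hz hPC U.1 U.2 r, hlt⟩
      rw [← 𝒮.toQCAlg.π_preimage _ (U.2.basicOpen r)]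
      exact hr)
  exact ⟨i, (isConeImm_iff hz i).mpr fun U hU => hi ⟨U, hU⟩,
    fun j hj => hu j fun U => (isConeImm_iff hz j).mp hj U.1 U.2⟩

section

variable {i : 𝒮.toQCAlg.spec ⟶ PC} (hi : RelCone.IsConeImm 𝒮 hz pC chartC i)

include hPC hi in
theorem coneImm_over : i ≫ pC = 𝒮.toQCAlg.π := by
  refine ext_of_charts _ _ fun x => ?_
  obtain ⟨U, hU, w, hw⟩ := exists_chart 𝒮.toQCAlg x
  refine ⟨_, 𝒮.toQCAlg.ι U hU, inferInstance, ⟨w, hw⟩, ?_⟩
  rw [← Category.assoc, (isConeImm_iff hz i).mp hi U hU, uConeMap_eq, 𝒮.toQCAlg.ι_π, Category.assoc, Category.assoc,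
    emb_over hPC, Proj.awayι_toSpecZero_assoc, ← Spec.map_comp_assoc, ← Spec.map_comp_assoc]
  congr 2
  refine CommRingCat.hom_ext (RingHom.ext fun a => ?_)
  have hz0 : hz.evalOne U hU ((𝒮h.str.app (op U)).hom a) = (𝒮.str.app (op U)).hom a := by
    have h := MiscFlat6.gradedHomAt_strZero (φ := ι) (hφ := hz.graded) U hU a
    exact (congrArg (hz.evalOne U hU) h.symm).trans (hz.evalOne_ι U hU _)
  refine Eq.trans ?_ hz0
  refine hz.awayZToBase_of_val U hU _ _ 0 ?_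
  erw [HomogeneousLocalization.val_mk]
  congr 1
  exact Subtype.ext (pow_zero _).symm

include hPC hi in
theorem coneImm_preimage (U : Y.Opens) (hU : IsAffineOpen U) :
    i ⁻¹ᵁ (RelProj.emb pC chartC U hU).opensRange = (𝒮.toQCAlg.ι U hU).opensRange := by
  rw [emb_opensRange, ← Scheme.Hom.comp_preimage, coneImm_over hz hPC hi, 𝒮.toQCAlg.π_preimage U hU]

include hPC hi in
theorem coneImm_of_local (Q : MorphismProperty Scheme.{u}) [IsZariskiLocalAtTarget Q]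
    (h : ∀ (U : Y.Opens) (hU : IsAffineOpen U), Q (uConeMap hz U hU)) : Q i :=
  of_squares Q i (fun U : Y.affineOpens => 𝒮.toQCAlg.ι U.1 U.2) (fun U => RelProj.emb pC chartC U.1 U.2)
    (fun U => uConeMap hz U.1 U.2) (fun U => (isConeImm_iff hz i).mp hi U.1 U.2)
    (fun U => coneImm_preimage hz hPC hi U.1 U.2)
    (fun x => by
      obtain ⟨U, hU, v, hv⟩ := exists_emb (chart := chartC) x
      exact ⟨⟨U, hU⟩, v, hv⟩)
    fun U => h U.1 U.2

include hPC hi in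
theorem isOpenImmersion_coneImm : IsOpenImmersion i :=
  coneImm_of_local hz hPC hi @IsOpenImmersion fun U hU => by
    letI := algι ι U
    exact isOpenImmersion_coneMap (RelProj.gradedHomAt ι hz.graded U hU) (fun _ => rfl) _ (hz.deg_z U hU) (hat_bij hz U hU)

include hPC hi in
theorem isAffineHom_coneImm : IsAffineHom i :=
  coneImm_of_local hz hPC hi @IsAffineHom fun U hU => by
    letI := algι ι U
    exact isAffineHom_coneMap _ (hz.deg_z U hU) (hat_bij hz U hU)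

include hPC hi in
theorem mem_range_coneImm {U : Y.Opens} (hU : IsAffineOpen U) (v : Proj (𝒮h.deg U hU)) :
    RelProj.emb pC chartC U hU v ∈ Set.range i ↔
      v ∈ Proj.basicOpen (𝒮h.deg U hU) (RelCone.restrictTop 𝒮h z U) := by
  letI := algι ι U
  have hrange := coneMap_range (RelProj.gradedHomAt ι hz.graded U hU) (fun _ => rfl) (RelCone.restrictTop 𝒮h z U)
    (hz.deg_z U hU) (hat_bij hz U hU)
  constructor
  · rintro ⟨x, hx⟩
    have hx' : x ∈ (𝒮.toQCAlg.ι U hU).opensRange := by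
      rw [← coneImm_preimage hz hPC hi U hU]
      exact ⟨v, hx.symm⟩
    obtain ⟨w, rfl⟩ := hx'
    have h1 : uConeMap hz U hU w = v := by
      refine (RelProj.emb pC chartC U hU).isOpenEmbedding.injective ?_
      rw [← hx, ← Scheme.Hom.comp_apply, ← Scheme.Hom.comp_apply, (isConeImm_iff hz i).mp hi U hU]
    rw [← h1]
    exact hrange.le ⟨w, rfl⟩
  · intro hv
    obtain ⟨w, hw⟩ := hrange.ge hv
    refine ⟨𝒮.toQCAlg.ι U hU w, ?_⟩
    rw [← Scheme.Hom.comp_apply, (isConeImm_iff hz i).mp hi U hU, Scheme.Hom.comp_apply]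
    exact congrArg _ hw

include hPC hi in
theorem coneImm_preimage_pointedProjCone :
    i ⁻¹ᵁ RelCone.pointedProjCone 𝒮 hz pC chartC = RelCone.pointedCone 𝒮 := by
  ext x
  obtain ⟨U, hU, w, rfl⟩ := exists_chart 𝒮.toQCAlg x
  letI := algι ι U
  show (𝒮.toQCAlg.ι U hU ≫ i) w ∈ RelCone.pointedProjCone 𝒮 hz pC chartC ↔
    w ∈ 𝒮.toQCAlg.ι U hU ⁻¹ᵁ RelCone.pointedCone 𝒮
  rw [(isConeImm_iff hz i).mp hi U hU, ι_preimage_pointedCone 𝒮 hU, mem_vertexCompl, Scheme.Hom.comp_apply]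
  show uConeMap hz U hU w ∈ RelProj.emb pC chartC U hU ⁻¹ᵁ RelCone.pointedProjCone 𝒮 hz pC chartC ↔ _
  rw [emb_preimage_pointedProjCone hz hPC]
  exact coneMap_mem_domOpen (RelProj.gradedHomAt ι hz.graded U hU) (fun _ => rfl) _ (hz.deg_z U hU) (hat_bij hz U hU) w

include hPC hi in
theorem coneImm_ker : i.ker = ⊥ := by
  haveI := isAffineHom_coneImm hz hPC hi
  refine Scheme.IdealSheafData.ext_of_iSup_eq_top
    (ι := Σ U : Y.affineOpens, Idx (𝒮h.deg U.1 U.2))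
    (fun J => ⟨RelProj.emb pC chartC J.1.1 J.1.2 ''ᵁ Proj.basicOpen _ J.2.el,
      (Proj.isAffineOpen_basicOpen _ J.2.el J.2.mem J.2.pos).image_of_isOpenImmersion _⟩) ?_ fun J => ?_
  · refine top_le_iff.mp fun x _ => Opens.mem_iSup.mpr ?_
    obtain ⟨U, hU, v, rfl⟩ := exists_emb (chart := chartC) x
    obtain ⟨j, hj⟩ := ConeRetrLib.exists_mem_basicOpen (𝒜 := 𝒮h.deg U hU) v
    exact ⟨⟨⟨U, hU⟩, j⟩, v, hj, rfl⟩
  obtain ⟨⟨U, hU⟩, j⟩ := J
  letI := algι ι U
  have sq : IsPullback (uConeMap hz U hU) (𝒮.toQCAlg.ι U hU) (RelProj.emb pC chartC U hU) i :=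
    IsOpenImmersion.isPullback _ _ _ _ ((isConeImm_iff hz i).mp hi U hU) (coneImm_preimage hz hPC hi U hU)
  have h := Scheme.ker_ideal_of_isPullback_of_isOpenImmersion i (uConeMap hz U hU) _ _ sq
    ⟨Proj.basicOpen _ j.el, Proj.isAffineOpen_basicOpen _ j.el j.mem j.pos⟩
  have hker : (uConeMap hz U hU).ker = ⊥ :=
    (coneMap_ker (RelProj.gradedHomAt ι hz.graded U hU) (fun _ => rfl) _ (hz.deg_z U hU) (hat_bij hz U hU)).trans
      (MiscFlat6.basicOpen_ι_ker_eq_bot _ one_pos _ (hz.deg_z U hU)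
        (mul_z_cancel (RelProj.gradedHomAt ι hz.graded U hU) (fun _ => rfl) _ (hz.deg_z U hU) (hat_bij hz U hU)))
  rw [hker, Scheme.IdealSheafData.ideal_bot] at h
  refine (Ideal.comap_injective_of_surjective _ (ConcreteCategory.bijective_of_isIso
    ((RelProj.emb pC chartC U hU).appIso (Proj.basicOpen _ j.el)).inv).2) ?_
  refine h.symm.trans ?_
  rw [Scheme.IdealSheafData.ideal_bot]
  exact (RingHom.ker_eq_comap_bot _).symm.trans ((RingHom.injective_iff_ker_eq_bot _).mp (ConcreteCategory.bijective_of_isIso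
    ((RelProj.emb pC chartC U hU).appIso (Proj.basicOpen _ j.el)).inv).1) |>.symm

end

end RelConeLib

end
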