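import Groth.Prelude.Def_RelSpec2
import Groth.Agent.ConeRetrLib.Idx
import Groth.Agent.ConeRetrLib.Hat

/-!
# Morphisms defined by a graded homomorphism, for arbitrary gradings
-/

set_option autoImplicit false
universe u

open CategoryTheory AlgebraicGeometry HomogeneousLocalization TopologicalSpace
open ConeRetrLib (Idx)
open scoped HomogeneousIdeal

noncomputable section

namespace RelConeLib

variable {A σ : Type u} [CommRing A] [SetLike σ A] [AddSubgroupClass σ A] {𝒜 : ℕ → σ} [GradedRing 𝒜]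
  {B τ : Type u} [CommRing B] [SetLike τ B] [AddSubgroupClass τ B] {ℬ : ℕ → τ} [GradedRing ℬ]
  (ψ : 𝒜 →+*ᵍ ℬ)

theorem proj_ext {x y : Proj 𝒜}
    (h : ∀ (d : ℕ) (f : A), 0 < d → f ∈ 𝒜 d → (f ∈ x.asHomogeneousIdeal.toIdeal ↔ f ∈ y.asHomogeneousIdeal.toIdeal)) :
    x = y := by
  classical
  have key : ∀ (x y : Proj 𝒜), (∀ (d : ℕ) (f : A), 0 < d → f ∈ 𝒜 d →
      (f ∈ x.asHomogeneousIdeal.toIdeal ↔ f ∈ y.asHomogeneousIdeal.toIdeal)) →
      x.asHomogeneousIdeal.toIdeal ≤ y.asHomogeneousIdeal.toIdeal := by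
    intro x y h a ha
    obtain ⟨i, hi⟩ := ConeRetrLib.exists_mem_basicOpen (𝒜 := 𝒜) y
    rw [← DirectSum.sum_support_decompose 𝒜 a]
    refine Ideal.sum_mem _ fun n _ => ?_
    have h1 := (h (n + i.deg) _ (Nat.add_pos_right n i.pos) (SetLike.mul_mem_graded (SetLike.coe_mem _) i.mem)).mp
      (Ideal.mul_mem_right i.el _ (x.asHomogeneousIdeal.isHomogeneous n ha))
    exact (y.isPrime.mem_or_mem h1).resolve_right ((Proj.mem_basicOpen 𝒜 i.el y).mp hi)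
  exact ProjectiveSpectrum.ext (HomogeneousIdeal.toIdeal_injective
    (le_antisymm (key x y h) (key y x fun d f hd hf => (h d f hd hf).symm)))

theorem mem_domOpen_iff (x : Proj ℬ) :
    x ∈ RelCone.domOpen ψ ↔ ∃ i : Idx 𝒜, x ∈ Proj.basicOpen ℬ (ψ i.el) := by
  classical
  constructor
  · intro h
    obtain ⟨f, hf, hfx⟩ := (RelCone.mem_domOpen ψ x).mp h
    by_contra hc
    push Not at hc
    refine hfx ?_
    rw [← DirectSum.sum_support_decompose 𝒜 f, map_sum]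
    refine Ideal.sum_mem x.asHomogeneousIdeal.toIdeal fun n _ => ?_
    rcases Nat.eq_zero_or_pos n with rfl | hn
    · have h0 : (DirectSum.decompose 𝒜 f 0 : A) = 0 := hf
      rw [h0, map_zero]
      exact zero_mem _
    · by_contra hn'
      exact hc ⟨n, _, hn, SetLike.coe_mem _⟩ ((Proj.mem_basicOpen ℬ _ x).mpr hn')
  · rintro ⟨i, hi⟩
    exact (RelCone.mem_domOpen ψ x).mpr ⟨i.el, i.mem_irrelevant, (Proj.mem_basicOpen ℬ _ x).mp hi⟩

/-- The charts of the domain of definition. -/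
def dChart (i : Idx 𝒜) :
    Spec (CommRingCat.of (Away ℬ (ψ i.el))) ⟶ (RelCone.domOpen ψ : Scheme.{u}) :=
  IsOpenImmersion.lift (RelCone.domOpen ψ).ι (Proj.awayι ℬ (ψ i.el) (ψ.2 i.mem) i.pos) (by
    rw [Scheme.Opens.range_ι]
    intro x hx
    have hx' : x ∈ Proj.basicOpen ℬ (ψ i.el) := by
      rw [← Proj.opensRange_awayι ℬ (ψ i.el) (ψ.2 i.mem) i.pos]; exact hx
    exact (mem_domOpen_iff ψ x).mpr ⟨i, hx'⟩)

theorem dChart_ι (i : Idx 𝒜) :
    dChart ψ i ≫ (RelCone.domOpen ψ).ι = Proj.awayι ℬ (ψ i.el) (ψ.2 i.mem) i.pos :=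
  IsOpenImmersion.lift_fac _ _ _

instance (i : Idx 𝒜) : IsOpenImmersion (dChart ψ i) := by
  haveI : IsOpenImmersion (dChart ψ i ≫ (RelCone.domOpen ψ).ι) := by rw [dChart_ι]; infer_instance
  exact IsOpenImmersion.of_comp _ (RelCone.domOpen ψ).ι

theorem dChart_opensRange (i : Idx 𝒜) :
    (dChart ψ i).opensRange = (RelCone.domOpen ψ).ι ⁻¹ᵁ Proj.basicOpen ℬ (ψ i.el) := by
  rw [← Proj.opensRange_awayι ℬ (ψ i.el) (ψ.2 i.mem) i.pos]
  simp only [← dChart_ι]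
  rw [Scheme.Hom.opensRange_comp, Scheme.Hom.preimage_image_eq]

theorem dChart_cover (x : (RelCone.domOpen ψ : Scheme.{u})) : ∃ i, x ∈ (dChart ψ i).opensRange := by
  obtain ⟨i, hi⟩ := (mem_domOpen_iff ψ x.1).mp x.2
  exact ⟨i, (dChart_opensRange ψ i).ge hi⟩

theorem dChart_mul_left (i j : Idx 𝒜) :
    Spec.map (CommRingCat.ofHom (awayMap ℬ (f := ψ i.el) (x := ψ (i.mul j).el) (ψ.2 j.mem) (map_mul ψ i.el j.el))) ≫
      dChart ψ i = dChart ψ (i.mul j) := by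
  rw [← cancel_mono (RelCone.domOpen ψ).ι, Category.assoc, dChart_ι, dChart_ι]
  exact Proj.SpecMap_awayMap_awayι ℬ (ψ.2 i.mem) i.pos (ψ.2 j.mem) _

theorem dChart_mul_right (i j : Idx 𝒜) :
    Spec.map (CommRingCat.ofHom (awayMap ℬ (f := ψ j.el) (x := ψ (i.mul j).el) (ψ.2 i.mem)
        ((map_mul ψ i.el j.el).trans (mul_comm _ _)))) ≫
      dChart ψ j = dChart ψ (i.mul j) := by
  rw [← cancel_mono (RelCone.domOpen ψ).ι, Category.assoc, dChart_ι, dChart_ι]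
  exact Proj.SpecMap_awayMap_awayι ℬ (ψ.2 j.mem) j.pos (ψ.2 i.mem) _

/-- The map on a chart. -/
def dTarget (i : Idx 𝒜) : Spec (CommRingCat.of (Away ℬ (ψ i.el))) ⟶ Proj 𝒜 :=
  Spec.map (CommRingCat.ofHom (Away.map ψ i.el)) ≫ Proj.awayι 𝒜 i.el i.mem i.pos

theorem dTarget_mul_left (i j : Idx 𝒜) :
    Spec.map (CommRingCat.ofHom (awayMap ℬ (f := ψ i.el) (x := ψ (i.mul j).el) (ψ.2 j.mem) (map_mul ψ i.el j.el))) ≫
      dTarget ψ i = dTarget ψ (i.mul j) := by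
  rw [dTarget, dTarget, ← Spec.map_comp_assoc, ← CommRingCat.ofHom_comp,
    ConeRetrLib.awayMap_comp_map ψ i.mem j.mem (x := (i.mul j).el) rfl, CommRingCat.ofHom_comp, Spec.map_comp,
    Category.assoc, ConeRetrLib.awayι_mul_left]

theorem dTarget_mul_right (i j : Idx 𝒜) :
    Spec.map (CommRingCat.ofHom (awayMap ℬ (f := ψ j.el) (x := ψ (i.mul j).el) (ψ.2 i.mem)
        ((map_mul ψ i.el j.el).trans (mul_comm _ _)))) ≫
      dTarget ψ j = dTarget ψ (i.mul j) := by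
  rw [dTarget, dTarget, ← Spec.map_comp_assoc, ← CommRingCat.ofHom_comp,
    ConeRetrLib.awayMap_comp_map ψ j.mem i.mem (x := (i.mul j).el) (mul_comm _ _), CommRingCat.ofHom_comp,
    Spec.map_comp, Category.assoc, ConeRetrLib.awayι_mul_right]

theorem existsUnique_dMap :
    ∃! p : (RelCone.domOpen ψ : Scheme.{u}) ⟶ Proj 𝒜, ∀ i : Idx 𝒜, dChart ψ i ≫ p = dTarget ψ i := by
  refine ConeRetrLib.existsUnique_glue (fun i => dChart ψ i) (dTarget ψ) (dChart_cover ψ) Idx.mul _ _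
    (dChart_mul_left ψ) (dChart_mul_right ψ) (fun i j => ?_) (dTarget_mul_left ψ) (dTarget_mul_right ψ)
  rw [dChart_opensRange, dChart_opensRange, dChart_opensRange, ← Scheme.Hom.preimage_inf,
    ← Proj.basicOpen_mul, show ψ (i.mul j).el = ψ i.el * ψ j.el from map_mul ψ i.el j.el]

/-- The morphism `G(ψ) ⟶ Proj A` induced by `ψ`. -/
def dMap : (RelCone.domOpen ψ : Scheme.{u}) ⟶ Proj 𝒜 := (existsUnique_dMap ψ).choose

theorem dChart_dMap (i : Idx 𝒜) : dChart ψ i ≫ dMap ψ = dTarget ψ i :=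
  (existsUnique_dMap ψ).choose_spec.1 i

theorem dTarget_preimage (i : Idx 𝒜) {e : ℕ} {g : A} (hg : g ∈ 𝒜 e) (he : 0 < e) :
    dTarget ψ i ⁻¹ᵁ Proj.basicOpen 𝒜 g =
      Proj.awayι ℬ (ψ i.el) (ψ.2 i.mem) i.pos ⁻¹ᵁ Proj.basicOpen ℬ (ψ g) := by
  rw [dTarget, Scheme.Hom.comp_preimage, Proj.awayι_preimage_basicOpen 𝒜 i.mem i.pos hg he]
  refine Eq.trans ?_ (Proj.awayι_preimage_basicOpen ℬ (ψ.2 i.mem) i.pos (ψ.2 hg) he).symm
  ext z
  change ¬ _ ∈ z.asIdeal ↔ ¬ _ ∈ z.asIdeal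
  simp [Away.isLocalizationElem, Away.map_mk, map_pow]

theorem dMap_preimage {e : ℕ} {g : A} (hg : g ∈ 𝒜 e) (he : 0 < e) :
    dMap ψ ⁻¹ᵁ Proj.basicOpen 𝒜 g = (RelCone.domOpen ψ).ι ⁻¹ᵁ Proj.basicOpen ℬ (ψ g) := by
  refine ConeRetrLib.preimage_eq (dChart ψ) (dChart_cover ψ) (dMap ψ) _ _ fun i => ?_
  rw [dChart_dMap, dTarget_preimage ψ i hg he, ← Scheme.Hom.comp_preimage, dChart_ι]

theorem isAffineHom_dMap : IsAffineHom (dMap ψ) := by
  refine ConeRetrLib.isAffineHom_of_cover _ (fun i : Idx 𝒜 => Proj.basicOpen 𝒜 i.el)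
    (fun i => Proj.isAffineOpen_basicOpen 𝒜 i.el i.mem i.pos) ConeRetrLib.exists_mem_basicOpen fun i => ?_
  rw [dMap_preimage ψ i.mem i.pos, ← dChart_opensRange]
  exact isAffineOpen_opensRange _

section Retraction

variable (θ : ℬ →+*ᵍ 𝒜) (hθψ : ∀ a : A, θ (ψ a) = a)
  (hθ : HomogeneousIdeal.irrelevant 𝒜 ≤ (HomogeneousIdeal.irrelevant ℬ).map θ)

include hθψ in
theorem range_map_subset : Set.range (Proj.map θ hθ) ⊆ Set.range (RelCone.domOpen ψ).ι := by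
  rw [Scheme.Opens.range_ι]
  rintro _ ⟨q, rfl⟩
  obtain ⟨i, hi⟩ := ConeRetrLib.exists_mem_basicOpen (𝒜 := 𝒜) q
  refine (mem_domOpen_iff ψ _).mpr ⟨i, ?_⟩
  show q ∈ Proj.map θ hθ ⁻¹ᵁ Proj.basicOpen ℬ (ψ i.el)
  rw [Proj.map_preimage_basicOpen, hθψ]
  exact hi

include hθψ in
/-- A retraction of `ψ` gives a section of `G(ψ) ⟶ Proj A`. -/
theorem section_dMap :
    IsOpenImmersion.lift (RelCone.domOpen ψ).ι (Proj.map θ hθ) (range_map_subset ψ θ hθψ hθ) ≫ dMap ψ = 𝟙 _ := by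
  let j := IsOpenImmersion.lift (RelCone.domOpen ψ).ι (Proj.map θ hθ) (range_map_subset ψ θ hθψ hθ)
  show j ≫ dMap ψ = 𝟙 _
  have hj : j ≫ (RelCone.domOpen ψ).ι = Proj.map θ hθ := IsOpenImmersion.lift_fac _ _ _
  refine (Proj.affineOpenCover 𝒜).openCover.hom_ext _ _ fun s => ?_
  simp only [Scheme.AffineOpenCover.openCover_f, Proj.affineOpenCover_f, Category.comp_id]
  let i : Idx 𝒜 := ⟨s.1.1, s.2.1, s.1.2, s.2.2⟩
  show Proj.awayι 𝒜 i.el i.mem i.pos ≫ j ≫ dMap ψ = Proj.awayι 𝒜 i.el i.mem i.pos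
  have key : ∀ (e : A) (he : e ∈ 𝒜 i.deg), e = i.el → (Proj.awayι 𝒜 e he i.pos ≫ j ≫ dMap ψ =
      Proj.awayι 𝒜 e he i.pos) → Proj.awayι 𝒜 i.el i.mem i.pos ≫ j ≫ dMap ψ =
      Proj.awayι 𝒜 i.el i.mem i.pos := by
    rintro e he rfl h; exact h
  refine key (θ (ψ i.el)) (θ.2 (ψ.2 i.mem)) (hθψ _) ?_
  have h1 : Proj.awayι 𝒜 (θ (ψ i.el)) (θ.2 (ψ.2 i.mem)) i.pos ≫ j =
      Spec.map (CommRingCat.ofHom (Away.map θ (ψ i.el))) ≫ dChart ψ i := by
    rw [← cancel_mono (RelCone.domOpen ψ).ι, Category.assoc, Category.assoc, hj, dChart_ι]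
    exact Proj.awayι_comp_map θ hθ i.pos (ψ i.el) (ψ.2 i.mem)
  rw [← Category.assoc, h1, Category.assoc, dChart_dMap, dTarget, ← Spec.map_comp_assoc, ← CommRingCat.ofHom_comp]
  have key2 : ∀ (e : A) (he : e ∈ 𝒜 i.deg) (_ : e = i.el)
      (k : Away 𝒜 i.el →+* Away 𝒜 e),
      (∀ (n : ℕ) (a : A) (ha : a ∈ 𝒜 (n • i.deg)), k (Away.mk 𝒜 i.mem n a ha) = Away.mk 𝒜 he n a ha) →
      Spec.map (CommRingCat.ofHom k) ≫ Proj.awayι 𝒜 i.el i.mem i.pos = Proj.awayι 𝒜 e he i.pos := by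
    rintro e he rfl k hk
    have : k = RingHom.id _ := RingHom.ext fun a => by
      obtain ⟨n, a, ha, rfl⟩ := a.mk_surjective _ i.mem
      rw [hk]; rfl
    rw [this]
    simp
  refine key2 _ _ (hθψ _) _ fun n a ha => ?_
  rw [RingHom.comp_apply, Away.map_mk, Away.map_mk]
  exact val_injective _ (by simp [Away.val_mk, hθψ])

include hθψ θ hθ in
theorem surjective_dMap : Surjective (dMap ψ) := by
  refine ⟨fun q => ⟨IsOpenImmersion.lift (RelCone.domOpen ψ).ι (Proj.map θ hθ) (range_map_subset ψ θ hθψ hθ) q, ?_⟩⟩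
  rw [← Scheme.Hom.comp_apply, section_dMap ψ θ hθψ hθ]
  rfl

end Retraction

section Hat

variable [Algebra A B] (hψ : ∀ a : A, ψ a = algebraMap A B a) (z : B) (hz : z ∈ ℬ 1)
  (hhat : Function.Bijective (Polynomial.aeval (R := A) z))

/-- `Spec A ⟶ Proj B` with image `D₊(z)`. -/
def coneMap : Spec (CommRingCat.of A) ⟶ Proj ℬ :=
  Spec.map (CommRingCat.ofHom (ConeRetrLib.deHom (ℬ := ℬ) z hhat)) ≫ Proj.awayι ℬ z hz one_pos

include ψ hψ hz in
theorem isIso_deHom : IsIso (Spec.map (CommRingCat.ofHom (ConeRetrLib.deHom (ℬ := ℬ) z hhat))) := by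
  haveI : IsIso (CommRingCat.ofHom (ConeRetrLib.deHom (ℬ := ℬ) z hhat)) :=
    (ConcreteCategory.isIso_iff_bijective _).mpr (ConeRetrLib.deHom_bijective ψ hψ z hz hhat)
  infer_instance

include ψ hψ in
theorem isOpenImmersion_coneMap : IsOpenImmersion (coneMap (ℬ := ℬ) z hz hhat) := by
  haveI := isIso_deHom ψ hψ z hz hhat
  unfold coneMap
  infer_instance

include ψ hψ in
theorem coneMap_range : Set.range (coneMap (ℬ := ℬ) z hz hhat) = (Proj.basicOpen ℬ z : Set (Proj ℬ)) := by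
  haveI := isIso_deHom ψ hψ z hz hhat
  rw [← Proj.opensRange_awayι ℬ z hz one_pos, coneMap, Scheme.Hom.comp_base, TopCat.coe_comp,
    Set.range_comp_subset_range _ _ |>.antisymm]
  · rfl
  · rintro _ ⟨w, rfl⟩
    obtain ⟨v, rfl⟩ := (Spec.map (CommRingCat.ofHom (ConeRetrLib.deHom (ℬ := ℬ) z hhat))).homeomorph.surjective w
    exact ⟨v, rfl⟩

include hψ in
theorem coneMap_preimage_basicOpen {d : ℕ} {f : A} (hf : f ∈ 𝒜 d) (hd : 0 < d) :
    coneMap (ℬ := ℬ) z hz hhat ⁻¹ᵁ Proj.basicOpen ℬ (ψ f) =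
      (PrimeSpectrum.basicOpen f : (Spec (CommRingCat.of A)).Opens) := by
  rw [coneMap, Scheme.Hom.comp_preimage]
  refine Eq.trans (congrArg _ (Proj.awayι_preimage_basicOpen ℬ hz one_pos (ψ.2 hf) hd)) ?_
  ext w
  change ¬ ConeRetrLib.deHom (ℬ := ℬ) z hhat (Away.isLocalizationElem hz (ψ.2 hf)) ∈ w.asIdeal ↔ ¬ f ∈ w.asIdeal
  rw [Away.isLocalizationElem, ConeRetrLib.deHom_mk z hz hhat, map_pow, pow_one]
  exact iff_of_eq (congrArg (fun c : A => ¬ c ∈ w.asIdeal) (ConeRetrLib.ev_phi ψ hψ z hhat f))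

include hψ in
theorem coneMap_mem_domOpen (w : Spec (CommRingCat.of A)) :
    coneMap (ℬ := ℬ) z hz hhat w ∈ RelCone.domOpen ψ ↔
      ¬ (HomogeneousIdeal.irrelevant 𝒜).toIdeal ≤ w.asIdeal := by
  rw [mem_domOpen_iff]
  constructor
  · rintro ⟨i, hi⟩ h
    have h1 : w ∈ coneMap (ℬ := ℬ) z hz hhat ⁻¹ᵁ Proj.basicOpen ℬ (ψ i.el) := hi
    rw [coneMap_preimage_basicOpen ψ hψ z hz hhat i.mem i.pos] at h1
    exact h1 (h i.mem_irrelevant)
  · intro h
    obtain ⟨i, hi⟩ := ConeRetrLib.exists_idx_notMem (𝒜 := 𝒜) h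
    refine ⟨i, ?_⟩
    show w ∈ coneMap (ℬ := ℬ) z hz hhat ⁻¹ᵁ Proj.basicOpen ℬ (ψ i.el)
    rw [coneMap_preimage_basicOpen ψ hψ z hz hhat i.mem i.pos]
    exact hi

include hψ hz hhat in
theorem mul_z_cancel : z ∈ nonZeroDivisors B := by
  rw [mem_nonZeroDivisors_iff_right]
  intro b hb
  obtain ⟨p, rfl⟩ := hhat.2 b
  have h1 : Polynomial.aeval (R := A) z (p * Polynomial.X) = Polynomial.aeval (R := A) z 0 := by simpa using hb
  have h2 := hhat.1 h1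
  have h3 : p = 0 := Polynomial.ext fun n => by
    have h4 := congrArg (fun q : Polynomial A => q.coeff (n + 1)) h2
    simpa [Polynomial.coeff_mul_X] using h4
  rw [h3, map_zero]

include hψ hz hhat in
theorem range_map_eq_compl (θ : ℬ →+*ᵍ 𝒜) (hθψ : ∀ a : A, θ (ψ a) = a) (hθz : θ z = 0)
    (hθ : HomogeneousIdeal.irrelevant 𝒜 ≤ (HomogeneousIdeal.irrelevant ℬ).map θ) :
    Set.range (Proj.map θ hθ) = ((Proj.basicOpen ℬ z : Set (Proj ℬ)))ᶜ := by
  classical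
  ext P
  constructor
  · rintro ⟨q, rfl⟩ hq
    have h1 : q ∈ Proj.map θ hθ ⁻¹ᵁ Proj.basicOpen ℬ z := hq
    rw [Proj.map_preimage_basicOpen, hθz, Proj.mem_basicOpen] at h1
    exact h1 (zero_mem _)
  · intro hP
    have hzP : z ∈ P.asHomogeneousIdeal.toIdeal := by
      by_contra h
      exact hP ((Proj.mem_basicOpen ℬ z P).mpr h)
    have hsub : ∀ b, b - ψ (θ b) ∈ Ideal.span ({z} : Set B) := by
      intro b
      obtain ⟨p, rfl⟩ := hhat.2 b
      induction p using Polynomial.induction_on' with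
      | add p r hp hr =>
        have := add_mem hp hr
        simpa [map_add, add_sub_add_comm] using this
      | monomial n a =>
        rw [Polynomial.aeval_monomial, ← hψ, map_mul, map_pow, hθz, hθψ]
        cases n with
        | zero => simp
        | succ n =>
          simp only [pow_succ, mul_zero, map_zero, sub_zero]
          exact Ideal.mul_mem_left _ _ (Ideal.mul_mem_left _ _ (Ideal.subset_span rfl))
    have hmemP : ∀ b, b ∈ P.asHomogeneousIdeal.toIdeal ↔ ψ (θ b) ∈ P.asHomogeneousIdeal.toIdeal := fun b => by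
      have h : b - ψ (θ b) ∈ P.asHomogeneousIdeal.toIdeal :=
        (Ideal.span_singleton_le_iff_mem _).mpr hzP (hsub b)
      exact ⟨fun hb => by simpa using sub_mem hb h, fun hb => by simpa using add_mem h hb⟩
    let I : Ideal A := Ideal.comap ψ P.asHomogeneousIdeal.toIdeal
    have hIhom : I.IsHomogeneous 𝒜 := fun n a ha => by
      show ψ _ ∈ P.asHomogeneousIdeal.toIdeal
      rw [GradedRingHom.map_directSumDecompose]
      exact P.asHomogeneousIdeal.isHomogeneous n ha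
    haveI := P.isPrime
    have hnot : ¬ HomogeneousIdeal.irrelevant 𝒜 ≤ ⟨I, hIhom⟩ := fun h => P.not_irrelevant_le
      ((HomogeneousIdeal.toIdeal_irrelevant_le _).mpr fun d hd b hb =>
        (hmemP b).mpr (h (HomogeneousIdeal.mem_irrelevant_of_mem 𝒜 hd (θ.2 hb))))
    refine ⟨⟨⟨I, hIhom⟩, inferInstanceAs (Ideal.comap ψ P.asHomogeneousIdeal.toIdeal).IsPrime, hnot⟩, ?_⟩
    refine proj_ext fun d b hd hb => ?_
    show θ b ∈ I ↔ _
    exact (hmemP b).symm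

end Hat

end RelConeLib

end
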