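import Groth.Agent.RelConeLib.Charts

/-!
# `Proj` of a polynomial algebra in one variable over a quasi-coherent algebra
-/

set_option autoImplicit false
universe u

open CategoryTheory CategoryTheory.Limits AlgebraicGeometry TopologicalSpace Opposite HomogeneousLocalization
open scoped HomogeneousIdeal

noncomputable section

namespace RelConeLib

variable {A : Type u} [CommRing A] {B τ : Type u} [CommRing B] [SetLike τ B] [AddSubgroupClass τ B]
  {ℬ : ℕ → τ} [GradedRing ℬ] (f : A →+* B) (hf : ∀ a, f a ∈ ℬ 0) (z : B) (hz : z ∈ ℬ 1)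
  (hbij : Function.Bijective (Polynomial.eval₂RingHom f z))

include hf hz hbij in
theorem polyHom_homogeneous {n : ℕ} {b : B} (hb : b ∈ ℬ n) : ∃ a, b = f a * z ^ n := by
  classical
  obtain ⟨P, rfl⟩ := hbij.2 b
  refine ⟨P.coeff n, ?_⟩
  have hmem : ∀ i, f (P.coeff i) * z ^ i ∈ ℬ i := fun i => by
    simpa using SetLike.mul_mem_graded (hf (P.coeff i)) (SetLike.pow_mem_graded i hz)
  conv_lhs => rw [← DirectSum.decompose_of_mem_same ℬ hb]
  show (DirectSum.decompose ℬ (Polynomial.eval₂ f z P) n : B) = _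
  rw [Polynomial.eval₂_eq_sum, Polynomial.sum_def, DirectSum.decompose_sum, DFinsupp.finsetSum_apply,
    AddSubmonoidClass.coe_finsetSum, Finset.sum_eq_single n (fun i _ hi => DirectSum.decompose_of_mem_ne ℬ (hmem i) hi)
      (fun hn => by simp [Polynomial.notMem_support_iff.mp hn])]
  exact DirectSum.decompose_of_mem_same ℬ (hmem n)

include hf hz hbij in
theorem basicOpen_poly_eq_top : Proj.basicOpen ℬ z = ⊤ := by
  refine top_le_iff.mp fun P _ => ?_
  rw [Proj.mem_basicOpen]
  intro hzP
  refine P.not_irrelevant_le ((HomogeneousIdeal.toIdeal_irrelevant_le _).mpr fun n hn b hb => ?_)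
  obtain ⟨a, rfl⟩ := polyHom_homogeneous f hf z hz hbij hb
  obtain ⟨m, rfl⟩ : ∃ m, n = m + 1 := ⟨n - 1, by omega⟩
  rw [pow_succ, ← mul_assoc]
  exact Ideal.mul_mem_left _ _ hzP

include hf hz hbij in
theorem poly_away_bijective (θ : Away ℬ z →+* A)
    (hθ : ∀ (q : Away ℬ z) (k : ℕ) (a : A),
      q.val = Localization.mk (f a * z ^ k) ⟨z ^ k, pow_mem (Submonoid.mem_powers z) k⟩ → θ q = a) :
    Function.Bijective θ := by
  constructor
  · rw [injective_iff_map_eq_zero]
    intro q hq
    obtain ⟨n, b, hb, rfl⟩ := q.mk_surjective _ hz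
    obtain ⟨a, rfl⟩ := polyHom_homogeneous f hf z hz hbij (n := n) (by simpa using hb)
    rw [hθ _ n a (Away.val_mk _ _ _ _ _)] at hq
    subst hq
    exact val_injective _ (by rw [Away.val_mk, val_zero, map_zero, zero_mul, Localization.mk_zero])
  · intro a
    exact ⟨Away.mk ℬ hz 0 (f a) (by simpa using hf a), hθ _ 0 a (by simp [Away.val_mk])⟩

end RelConeLib

end
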