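import Groth.Agent.RelConeLib.Charts
import Groth.Agent.RelConeLib.Dom
import Groth.Agent.MiscFlat6.RelProjGlue

/-!
# The retraction of the pointed projective cone over a general base
-/

set_option autoImplicit false
universe u

open CategoryTheory CategoryTheory.Limits AlgebraicGeometry TopologicalSpace Opposite HomogeneousLocalization
open ConeRetrLib (Idx)
open scoped HomogeneousIdeal

noncomputable section

namespace RelConeLib

variable {Y PC P : Scheme.{u}} {𝒮 𝒮h : RelProj.QCGrAlg Y} {ι : 𝒮.toQCAlg ⟶ 𝒮h.toQCAlg}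
  {z : 𝒮h.presheaf.obj (op ⊤)} (hz : RelCone.IsPolyOver 𝒮 𝒮h ι z) {pC : PC ⟶ Y}
  {chartC : ∀ (U : Y.Opens) (hU : IsAffineOpen U), (((pC ⁻¹ᵁ U : PC.Opens) : Scheme.{u}) ≅ Proj (𝒮h.deg U hU))}
  (hPC : RelProj.IsRelProj 𝒮h pC chartC) {p : P ⟶ Y}
  {chart : ∀ (U : Y.Opens) (hU : IsAffineOpen U), (((p ⁻¹ᵁ U : P.Opens) : Scheme.{u}) ≅ Proj (𝒮.deg U hU))}
  (hP : RelProj.IsRelProj 𝒮 p chart)

local notation "gι" => fun (U : Y.Opens) (hU : IsAffineOpen U) => RelProj.gradedHomAt ι hz.graded U hU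

/-- The chart of the pointed projective cone over an affine open. -/
def dEmb (U : Y.Opens) (hU : IsAffineOpen U) :
    (RelCone.domOpen (RelProj.gradedHomAt ι hz.graded U hU) : Scheme.{u}) ⟶
      (RelCone.pointedProjCone 𝒮 hz pC chartC : Scheme.{u}) :=
  IsOpenImmersion.lift (RelCone.pointedProjCone 𝒮 hz pC chartC).ι
    ((RelCone.domOpen (RelProj.gradedHomAt ι hz.graded U hU)).ι ≫ RelProj.emb pC chartC U hU) (by
      rw [Scheme.Opens.range_ι]
      rintro _ ⟨v, rfl⟩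
      exact Opens.mem_iSup.mpr ⟨⟨U, hU⟩, v.1, v.2, rfl⟩)

theorem dEmb_ι (U : Y.Opens) (hU : IsAffineOpen U) :
    dEmb hz (chartC := chartC) U hU ≫ (RelCone.pointedProjCone 𝒮 hz pC chartC).ι =
      (RelCone.domOpen (RelProj.gradedHomAt ι hz.graded U hU)).ι ≫ RelProj.emb pC chartC U hU :=
  IsOpenImmersion.lift_fac _ _ _

instance (U : Y.Opens) (hU : IsAffineOpen U) : IsOpenImmersion (dEmb hz (chartC := chartC) U hU) := by
  haveI : IsOpenImmersion (dEmb hz (chartC := chartC) U hU ≫ (RelCone.pointedProjCone 𝒮 hz pC chartC).ι) := by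
    rw [dEmb_ι]; infer_instance
  exact IsOpenImmersion.of_comp _ (RelCone.pointedProjCone 𝒮 hz pC chartC).ι

include hPC in
theorem dEmb_opensRange (U : Y.Opens) (hU : IsAffineOpen U) :
    (dEmb hz (chartC := chartC) U hU).opensRange =
      ((RelCone.pointedProjCone 𝒮 hz pC chartC).ι ≫ pC) ⁻¹ᵁ U := by
  ext x
  constructor
  · rintro ⟨v, rfl⟩
    show pC ((dEmb hz (chartC := chartC) U hU ≫ (RelCone.pointedProjCone 𝒮 hz pC chartC).ι) v) ∈ U
    rw [dEmb_ι]
    exact mem_of_emb _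
  · intro hx
    obtain ⟨v, hv⟩ := exists_emb_eq (chart := chartC) hU x.1 hx
    have hv' : v ∈ RelProj.emb pC chartC U hU ⁻¹ᵁ RelCone.pointedProjCone 𝒮 hz pC chartC :=
      show RelProj.emb pC chartC U hU v ∈ RelCone.pointedProjCone 𝒮 hz pC chartC from hv ▸ x.2
    rw [emb_preimage_pointedProjCone hz hPC] at hv'
    refine ⟨⟨v, hv'⟩, (RelCone.pointedProjCone 𝒮 hz pC chartC).ι.isOpenEmbedding.injective ?_⟩
    rw [← Scheme.Hom.comp_apply, dEmb_ι]
    exact hv

include hPC in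
theorem dEmb_cover (x : (RelCone.pointedProjCone 𝒮 hz pC chartC : Scheme.{u})) :
    ∃ U : Y.affineOpens, x ∈ (dEmb hz (chartC := chartC) U.1 U.2).opensRange := by
  obtain ⟨U, hU, hxU, -⟩ := exists_isAffineOpen_mem_and_subset (x := pC x.1) (U := ⊤) trivial
  exact ⟨⟨U, hU⟩, (dEmb_opensRange hz hPC U hU).ge hxU⟩

/-- The retraction on a chart. -/
def dRetr (U : Y.Opens) (hU : IsAffineOpen U) :
    (RelCone.domOpen (RelProj.gradedHomAt ι hz.graded U hU) : Scheme.{u}) ⟶ P :=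
  dMap (RelProj.gradedHomAt ι hz.graded U hU) ≫ RelProj.emb p chart U hU

/-- The restriction between two charts. -/
def dRes (U : Y.Opens) (hU : IsAffineOpen U) (r : Γ(Y, U)) :
    (RelCone.domOpen (RelProj.gradedHomAt ι hz.graded (Y.basicOpen r) (hU.basicOpen r)) : Scheme.{u}) ⟶
      (RelCone.domOpen (RelProj.gradedHomAt ι hz.graded U hU) : Scheme.{u}) :=
  IsOpenImmersion.lift (RelCone.domOpen (RelProj.gradedHomAt ι hz.graded U hU)).ι
    ((RelCone.domOpen (RelProj.gradedHomAt ι hz.graded (Y.basicOpen r) (hU.basicOpen r))).ι ≫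
      Proj.map (𝒮h.res hU (hU.basicOpen r) (Y.basicOpen_le r)) (𝒮h.irrelevant_le_map U hU r)) (by
      rw [Scheme.Opens.range_ι]
      rintro _ ⟨v, rfl⟩
      exact (mem_domOpen_res hz.graded hU r v.1).mpr v.2)

theorem dRes_ι (U : Y.Opens) (hU : IsAffineOpen U) (r : Γ(Y, U)) :
    dRes hz U hU r ≫ (RelCone.domOpen (RelProj.gradedHomAt ι hz.graded U hU)).ι =
      (RelCone.domOpen (RelProj.gradedHomAt ι hz.graded (Y.basicOpen r) (hU.basicOpen r))).ι ≫
        Proj.map (𝒮h.res hU (hU.basicOpen r) (Y.basicOpen_le r)) (𝒮h.irrelevant_le_map U hU r) :=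
  IsOpenImmersion.lift_fac _ _ _

include hPC in
theorem dRes_dEmb (U : Y.Opens) (hU : IsAffineOpen U) (r : Γ(Y, U)) :
    dRes hz U hU r ≫ dEmb hz (chartC := chartC) U hU = dEmb hz (chartC := chartC) _ (hU.basicOpen r) := by
  rw [← cancel_mono (RelCone.pointedProjCone 𝒮 hz pC chartC).ι, Category.assoc, dEmb_ι, dEmb_ι,
    reassoc_of% (dRes_ι hz U hU r), RelProj.map_res_emb hPC U hU r]

/-- The index of the restriction of a homogeneous element. -/
def resIdx {U : Y.Opens} (hU : IsAffineOpen U) {V : Y.Opens} (hV : IsAffineOpen V) (h : V ≤ U)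
    (i : Idx (𝒮.deg U hU)) : Idx (𝒮.deg V hV) :=
  ⟨i.deg, 𝒮.res hU hV h i.el, i.pos, (𝒮.res hU hV h).map_mem i.mem⟩

theorem dChart_cover_res (U : Y.Opens) (hU : IsAffineOpen U) (r : Γ(Y, U))
    (x : (RelCone.domOpen (RelProj.gradedHomAt ι hz.graded (Y.basicOpen r) (hU.basicOpen r)) : Scheme.{u})) :
    ∃ i : Idx (𝒮.deg U hU), x ∈ (dChart (RelProj.gradedHomAt ι hz.graded (Y.basicOpen r) (hU.basicOpen r))
      (resIdx hU (hU.basicOpen r) (Y.basicOpen_le r) i)).opensRange := by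
  obtain ⟨i, hi⟩ := (mem_domOpen_iff _ _).mp ((mem_domOpen_res hz.graded hU r x.1).mpr x.2)
  refine ⟨i, (dChart_opensRange _ _).ge ?_⟩
  show x.1 ∈ Proj.basicOpen _ (RelProj.gradedHomAt ι hz.graded _ (hU.basicOpen r)
    (𝒮.res hU (hU.basicOpen r) (Y.basicOpen_le r) i.el))
  rw [← res_gradedHomAt hz.graded hU (hU.basicOpen r) (Y.basicOpen_le r) i.el, ← Proj.map_preimage_basicOpen
    (𝒮h.res hU (hU.basicOpen r) (Y.basicOpen_le r)) (𝒮h.irrelevant_le_map U hU r)]
  exact hi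

include hP in
theorem dRes_dRetr (U : Y.Opens) (hU : IsAffineOpen U) (r : Γ(Y, U)) :
    dRes hz U hU r ≫ dRetr hz (chart := chart) U hU = dRetr hz (chart := chart) _ (hU.basicOpen r) := by
  refine ext_of_charts _ _ fun x => ?_
  obtain ⟨i, hi⟩ := dChart_cover_res hz U hU r x
  let W := Y.basicOpen r
  let hW : IsAffineOpen W := hU.basicOpen r
  let ρ := 𝒮.res hU hW (Y.basicOpen_le r)
  let ρh := 𝒮h.res hU hW (Y.basicOpen_le r)
  let i' := resIdx (𝒮 := 𝒮) hU hW (Y.basicOpen_le r) i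
  refine ⟨_, dChart (RelProj.gradedHomAt ι hz.graded W hW) i', inferInstance, hi, ?_⟩
  have hel : RelProj.gradedHomAt ι hz.graded W hW i'.el = ρh (RelProj.gradedHomAt ι hz.graded U hU i.el) :=
    (res_gradedHomAt hz.graded hU hW (Y.basicOpen_le r) i.el).symm
  -- the map on the localizations
  have key : ∀ (e : 𝒮h.presheaf.obj (op W)) (he : e ∈ 𝒮h.deg W hW i.deg)
      (hee : ρh (RelProj.gradedHomAt ι hz.graded U hU i.el) = e),
      ∃ k : Away (𝒮h.deg U hU) (RelProj.gradedHomAt ι hz.graded U hU i.el) →+* Away (𝒮h.deg W hW) e,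
        (∀ n a ha, k (Away.mk _ ((RelProj.gradedHomAt ι hz.graded U hU).2 i.mem) n a ha) =
          Away.mk _ he n (ρh a) (ρh.2 ha)) ∧
        Proj.awayι (𝒮h.deg W hW) e he i.pos ≫ Proj.map ρh (𝒮h.irrelevant_le_map U hU r) =
          Spec.map (CommRingCat.ofHom k) ≫ Proj.awayι (𝒮h.deg U hU) _ ((RelProj.gradedHomAt ι hz.graded U hU).2 i.mem) i.pos := by
    intro e he hee
    subst hee
    exact ⟨Away.map ρh _, fun n a ha => Away.map_mk .., Proj.awayι_comp_map ρh _ i.pos _ _⟩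
  obtain ⟨k, hk, hk'⟩ := key _ ((RelProj.gradedHomAt ι hz.graded W hW).2 i'.mem) hel.symm
  have h1 : dChart (RelProj.gradedHomAt ι hz.graded W hW) i' ≫ dRes hz U hU r =
      Spec.map (CommRingCat.ofHom k) ≫ dChart (RelProj.gradedHomAt ι hz.graded U hU) i := by
    rw [← cancel_mono (RelCone.domOpen (RelProj.gradedHomAt ι hz.graded U hU)).ι, Category.assoc, Category.assoc,
      dRes_ι, dChart_ι, ← Category.assoc, dChart_ι]
    exact hk'
  rw [reassoc_of% h1, dRetr, dRetr, reassoc_of% (dChart_dMap (RelProj.gradedHomAt ι hz.graded U hU) i),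
    reassoc_of% (dChart_dMap (RelProj.gradedHomAt ι hz.graded W hW) i'), dTarget, dTarget, Category.assoc,
    Category.assoc, ← RelProj.map_res_emb hP U hU r]
  have h2 : Proj.awayι (𝒮.deg W hW) i'.el i'.mem i'.pos ≫ Proj.map ρ (𝒮.irrelevant_le_map U hU r) =
      Spec.map (CommRingCat.ofHom (Away.map ρ i.el)) ≫ Proj.awayι (𝒮.deg U hU) i.el i.mem i.pos :=
    Proj.awayι_comp_map ρ _ i.pos _ _
  erw [reassoc_of% h2]
  simp only [← Spec.map_comp_assoc, ← CommRingCat.ofHom_comp]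
  have hEq : k.comp (Away.map (RelProj.gradedHomAt ι hz.graded U hU) i.el) =
      (Away.map (RelProj.gradedHomAt ι hz.graded W hW) i'.el).comp (Away.map ρ i.el) := by
    refine RingHom.ext fun a => ?_
    obtain ⟨n, b, hb, rfl⟩ := a.mk_surjective _ i.mem
    simp only [RingHom.comp_apply, Away.map_mk]
    rw [hk n _ _]
    refine val_injective _ ?_
    rw [Away.val_mk]
    erw [Away.map_mk, Away.map_mk, Away.val_mk]
    rw [← res_gradedHomAt hz.graded hU hW (Y.basicOpen_le r) b]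
    rfl
  rw [hEq, CommRingCat.ofHom_comp, Spec.map_comp, Category.assoc]
  exact congrArg (Spec.map (CommRingCat.ofHom (Away.map (RelProj.gradedHomAt ι hz.graded W hW) i'.el)) ≫ ·)
    (Category.assoc _ _ _).symm

include hPC hP in
theorem existsUnique_retr :
    ∃! r : (RelCone.pointedProjCone 𝒮 hz pC chartC : Scheme.{u}) ⟶ P,
      ∀ (U : Y.Opens) (hU : IsAffineOpen U), dEmb hz (chartC := chartC) U hU ≫ r = dRetr hz (chart := chart) U hU := by
  obtain ⟨r, hr, hu⟩ := existsUnique_glue_local (fun U : Y.affineOpens => dEmb hz (chartC := chartC) U.1 U.2)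
    (fun U => dRetr hz (chart := chart) U.1 U.2) (dEmb_cover hz hPC) (fun U V x hx hx' => by
      obtain ⟨r, r', e, hr⟩ := exists_basicOpen_le_affine_inter U.2 V.2 (pC x.1)
        ⟨(dEmb_opensRange hz hPC U.1 U.2).le hx, (dEmb_opensRange hz hPC V.1 V.2).le hx'⟩
      have key : ∀ W : Y.affineOpens, W.1 = Y.basicOpen r' →
          ∃ l : (RelCone.domOpen (RelProj.gradedHomAt ι hz.graded W.1 W.2) : Scheme.{u}) ⟶
              (RelCone.domOpen (RelProj.gradedHomAt ι hz.graded V.1 V.2) : Scheme.{u}),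
            l ≫ dEmb hz (chartC := chartC) V.1 V.2 = dEmb hz (chartC := chartC) W.1 W.2 ∧
              l ≫ dRetr hz (chart := chart) V.1 V.2 = dRetr hz (chart := chart) W.1 W.2 := by
        rintro ⟨W, hW⟩ rfl
        exact ⟨dRes hz V.1 V.2 r', dRes_dEmb hz hPC V.1 V.2 r', dRes_dRetr hz hP V.1 V.2 r'⟩
      obtain ⟨l, hl, hlt⟩ := key ⟨_, U.2.basicOpen r⟩ e
      exact ⟨⟨_, U.2.basicOpen r⟩, dRes hz U.1 U.2 r, l, (dEmb_opensRange hz hPC _ (U.2.basicOpen r)).ge hr,
        dRes_dEmb hz hPC U.1 U.2 r, hl, dRes_dRetr hz hP U.1 U.2 r, hlt⟩)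
  exact ⟨r, fun U hU => hr ⟨U, hU⟩, fun r' hr' => hu r' fun U => hr' U.1 U.2⟩

/-- The characterisation of the retraction by its values on the standard affine pieces. -/
def IsRetr (r : (RelCone.pointedProjCone 𝒮 hz pC chartC : Scheme.{u}) ⟶ P) : Prop :=
  ∀ (U : Y.Opens) (hU : IsAffineOpen U) (d : ℕ) (hd : 0 < d) (f : 𝒮.presheaf.obj (op U)) (hf : f ∈ 𝒮.deg U hU d)
    (g : Spec (CommRingCat.of (HomogeneousLocalization.Away (𝒮h.deg U hU) ((RelProj.gradedHomAt ι hz.graded U hU) f))) ⟶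
      ((RelCone.pointedProjCone 𝒮 hz pC chartC : PC.Opens) : Scheme.{u})),
    g ≫ (RelCone.pointedProjCone 𝒮 hz pC chartC).ι =
        Proj.awayι (𝒮h.deg U hU) ((RelProj.gradedHomAt ι hz.graded U hU) f) ((RelProj.gradedHomAt ι hz.graded U hU).2 hf) hd ≫
          RelProj.emb pC chartC U hU →
      g ≫ r =
        Spec.map (CommRingCat.ofHom (HomogeneousLocalization.Away.map (RelProj.gradedHomAt ι hz.graded U hU) f)) ≫
          Proj.awayι (𝒮.deg U hU) f hf hd ≫ RelProj.emb p chart U hU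

theorem isRetr_iff (r : (RelCone.pointedProjCone 𝒮 hz pC chartC : Scheme.{u}) ⟶ P) :
    IsRetr hz (chart := chart) r ↔
      ∀ (U : Y.Opens) (hU : IsAffineOpen U), dEmb hz (chartC := chartC) U hU ≫ r = dRetr hz (chart := chart) U hU := by
  have hd : ∀ (U : Y.Opens) (hU : IsAffineOpen U) (i : Idx (𝒮.deg U hU)),
      (dChart (RelProj.gradedHomAt ι hz.graded U hU) i ≫ dEmb hz (chartC := chartC) U hU) ≫
          (RelCone.pointedProjCone 𝒮 hz pC chartC).ι =
        Proj.awayι (𝒮h.deg U hU) _ ((RelProj.gradedHomAt ι hz.graded U hU).2 i.mem) i.pos ≫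
          RelProj.emb pC chartC U hU := by
    intro U hU i
    rw [Category.assoc, dEmb_ι, reassoc_of% (dChart_ι (RelProj.gradedHomAt ι hz.graded U hU) i)]
    rfl
  constructor
  · intro h U hU
    refine ext_of_charts _ _ fun x => ?_
    obtain ⟨i, hi⟩ := dChart_cover (RelProj.gradedHomAt ι hz.graded U hU) x
    refine ⟨_, dChart (RelProj.gradedHomAt ι hz.graded U hU) i, inferInstance, hi, ?_⟩
    rw [← Category.assoc, h U hU i.deg i.pos i.el i.mem _ (hd U hU i), dRetr,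
      reassoc_of% (dChart_dMap (RelProj.gradedHomAt ι hz.graded U hU) i), dTarget, Category.assoc]
  · intro h U hU d hd' f hf g hg
    let i : Idx (𝒮.deg U hU) := ⟨d, f, hd', hf⟩
    have hg' : g = dChart (RelProj.gradedHomAt ι hz.graded U hU) i ≫ dEmb hz (chartC := chartC) U hU := by
      rw [← cancel_mono (RelCone.pointedProjCone 𝒮 hz pC chartC).ι, hd U hU i]
      exact hg
    rw [hg', Category.assoc, h U hU, dRetr,
      reassoc_of% (dChart_dMap (RelProj.gradedHomAt ι hz.graded U hU) i), dTarget, Category.assoc]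

include hPC hP in
theorem existsUnique_isRetr :
    ∃! r : (RelCone.pointedProjCone 𝒮 hz pC chartC : Scheme.{u}) ⟶ P, IsRetr hz (chart := chart) r := by
  obtain ⟨r, hr, hu⟩ := existsUnique_retr hz hPC hP
  exact ⟨r, (isRetr_iff hz r).mpr hr, fun r' hr' => hu r' ((isRetr_iff hz r').mp hr')⟩

section

variable {r : (RelCone.pointedProjCone 𝒮 hz pC chartC : Scheme.{u}) ⟶ P} (hr : IsRetr hz (chart := chart) r)

include hPC hP hr in
theorem retr_over : r ≫ p = (RelCone.pointedProjCone 𝒮 hz pC chartC).ι ≫ pC := by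
  refine ext_of_charts _ _ fun x => ?_
  obtain ⟨U, hx⟩ := dEmb_cover hz hPC x
  refine ⟨_, dEmb hz (chartC := chartC) U.1 U.2, inferInstance, hx, ?_⟩
  rw [← Category.assoc, (isRetr_iff hz r).mp hr U.1 U.2, ← Category.assoc (dEmb hz (chartC := chartC) U.1 U.2),
    dEmb_ι, dRetr, Category.assoc, Category.assoc, emb_over hP, emb_over hPC]
  refine ext_of_charts _ _ fun w => ?_
  obtain ⟨i, hi⟩ := dChart_cover (RelProj.gradedHomAt ι hz.graded U.1 U.2) w
  refine ⟨_, dChart (RelProj.gradedHomAt ι hz.graded U.1 U.2) i, inferInstance, hi, ?_⟩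
  rw [reassoc_of% (dChart_dMap (RelProj.gradedHomAt ι hz.graded U.1 U.2) i),
    reassoc_of% (dChart_ι (RelProj.gradedHomAt ι hz.graded U.1 U.2) i), dTarget, Category.assoc,
    Proj.awayι_toSpecZero_assoc, Proj.awayι_toSpecZero_assoc, ← Spec.map_comp_assoc, ← Spec.map_comp_assoc,
    ← Spec.map_comp_assoc]
  congr 2
  refine CommRingCat.hom_ext (RingHom.ext fun a => val_injective _ ?_)
  simp only [CommRingCat.hom_comp, CommRingCat.hom_ofHom, RingHom.comp_apply]
  show HomogeneousLocalization.val (Away.map (RelProj.gradedHomAt ι hz.graded U.1 U.2) i.el (HomogeneousLocalization.mk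
    ⟨0, (𝒮.strZero U.1 U.2).hom a, (1 : 𝒮.deg U.1 U.2 0), one_mem _⟩)) = HomogeneousLocalization.val
      (HomogeneousLocalization.mk (x := Submonoid.powers (RelProj.gradedHomAt ι hz.graded U.1 U.2 i.el))
        ⟨0, (𝒮h.strZero U.1 U.2).hom a, (1 : 𝒮h.deg U.1 U.2 0), one_mem _⟩)
  erw [HomogeneousLocalization.map_mk]
  simp [HomogeneousLocalization.val_mk]
  congr 1
  exact MiscFlat6.gradedHomAt_strZero (φ := ι) (hφ := hz.graded) U.1 U.2 a

include hPC hP hr in
theorem retr_preimage (U : Y.Opens) (hU : IsAffineOpen U) :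
    r ⁻¹ᵁ (RelProj.emb p chart U hU).opensRange = (dEmb hz (chartC := chartC) U hU).opensRange := by
  rw [emb_opensRange, ← Scheme.Hom.comp_preimage, retr_over hz hPC hP hr, dEmb_opensRange hz hPC]

include hPC hP hr in
theorem isAffineHom_retr : IsAffineHom r := by
  refine of_squares @IsAffineHom r (fun U : Y.affineOpens => dEmb hz (chartC := chartC) U.1 U.2)
    (fun U => RelProj.emb p chart U.1 U.2) (fun U => dMap (RelProj.gradedHomAt ι hz.graded U.1 U.2))
    (fun U => (isRetr_iff hz r).mp hr U.1 U.2) (fun U => retr_preimage hz hPC hP hr U.1 U.2)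
    (fun x => ?_) fun U => isAffineHom_dMap _
  obtain ⟨U, hU, v, hv⟩ := exists_emb (chart := chart) x
  exact ⟨⟨U, hU⟩, v, hv⟩

include hPC hP hr in
theorem retr_section (θ : 𝒮h.toQCAlg ⟶ 𝒮.toQCAlg) (hθ : RelProj.IsGradedHom θ) (hιθ : ι ≫ θ = 𝟙 _)
    (hirr : ∀ (U : Y.Opens) (hU : IsAffineOpen U),
      (𝒮.deg U hU)₊ ≤ ((𝒮h.deg U hU)₊).map (RelProj.gradedHomAt θ hθ U hU))
    (j : P ⟶ PC) (hj : RelProj.IsRelProjMap θ hθ hirr chartC chart j)
    (j' : P ⟶ (RelCone.pointedProjCone 𝒮 hz pC chartC : Scheme.{u}))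
    (hj' : j' ≫ (RelCone.pointedProjCone 𝒮 hz pC chartC).ι = j) : j' ≫ r = 𝟙 P := by
  refine ext_of_charts _ _ fun x => ?_
  obtain ⟨U, hU, v, hv⟩ := exists_emb (chart := chart) x
  refine ⟨_, RelProj.emb p chart U hU, inferInstance, ⟨v, hv⟩, ?_⟩
  have hθι : ∀ a, RelProj.gradedHomAt θ hθ U hU (RelProj.gradedHomAt ι hz.graded U hU a) = a := fun a => by
    have h := congrArg (fun f : 𝒮.toQCAlg ⟶ 𝒮.toQCAlg => (f.hom.app (op U)).hom a) hιθ
    exact h
  have h1 : RelProj.emb p chart U hU ≫ j' =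
      IsOpenImmersion.lift (RelCone.domOpen (RelProj.gradedHomAt ι hz.graded U hU)).ι
        (Proj.map (RelProj.gradedHomAt θ hθ U hU) (hirr U hU))
        (range_map_subset _ _ hθι (hirr U hU)) ≫ dEmb hz (chartC := chartC) U hU := by
    rw [← cancel_mono (RelCone.pointedProjCone 𝒮 hz pC chartC).ι, Category.assoc, Category.assoc, hj', dEmb_ι,
      IsOpenImmersion.lift_fac_assoc, RelProj.emb, RelProj.emb, Category.assoc, hj U hU, Iso.inv_hom_id_assoc]
  rw [← Category.assoc, h1, Category.assoc, (isRetr_iff hz r).mp hr U hU, dRetr, ← Category.assoc,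
    section_dMap _ _ hθι (hirr U hU), Category.id_comp, Category.comp_id]

end

end RelConeLib

end
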